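import Groth.Prelude.Def_Isoc
import Mathlib.RingTheory.WittVector.Complete
import Mathlib.LinearAlgebra.FreeModule.PID

/-!
# Isocrystals: integrality, lattices and iterates
-/

noncomputable section

open scoped Pointwise

universe u v w

namespace Groth.Agent.IsocLib

variable {p : ℕ} [hp : Fact p.Prime] {k : Type u} [Field k] [CharP k p]

set_option hygiene false in
local notation "W" => WittVector p k
set_option hygiene false in
local notation "L" => FractionRing (WittVector p k)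

/-- The twist is an automorphism of `L` preserving `W`. -/
structure Good (τ : L →+* L) : Prop where
  bij : Function.Bijective τ
  map_int : ∀ w : W, ∃ w' : W, τ (algebraMap W L w) = algebraMap W L w'
  int_map : ∀ w : W, ∃ w' : W, τ (algebraMap W L w') = algebraMap W L w

lemma p_ne_zero : (p : L) ≠ 0 := by
  rw [← map_natCast (algebraMap W L) p]
  exact (map_ne_zero_iff _ (IsFractionRing.injective W L)).2 (WittVector.p_nonzero p k)

/-- `p ^ r` divides `c` in `W`. -/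
def Dvd' (r : ℤ) (c : L) : Prop := ∃ w : W, c = (p : L) ^ r * algebraMap W L w

lemma dvd'_zero (r : ℤ) : Dvd' r (0 : L) := ⟨0, by rw [map_zero, mul_zero]⟩

lemma Dvd'.add {r : ℤ} {c d : L} (hc : Dvd' r c) (hd : Dvd' r d) : Dvd' r (c + d) := by
  obtain ⟨a, rfl⟩ := hc
  obtain ⟨b, rfl⟩ := hd
  exact ⟨a + b, by rw [map_add, mul_add]⟩

lemma dvd'_sum {ι : Type*} {s : Finset ι} {r : ℤ} {f : ι → L} (h : ∀ i ∈ s, Dvd' r (f i)) :
    Dvd' r (∑ i ∈ s, f i) :=
  Finset.sum_induction f (Dvd' r) (fun _ _ => Dvd'.add) (dvd'_zero r) h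

lemma Dvd'.mul {r r' : ℤ} {c d : L} (hc : Dvd' r c) (hd : Dvd' r' d) : Dvd' (r + r') (c * d) := by
  obtain ⟨a, rfl⟩ := hc
  obtain ⟨b, rfl⟩ := hd
  exact ⟨a * b, by rw [map_mul, zpow_add₀ p_ne_zero]; ring⟩

lemma dvd'_algebraMap (w : W) : Dvd' 0 (algebraMap W L w) := ⟨w, by rw [zpow_zero, one_mul]⟩

lemma dvd'_one : Dvd' 0 (1 : L) := ⟨1, by rw [map_one, zpow_zero, one_mul]⟩

lemma dvd'_pow (r : ℤ) : Dvd' r ((p : L) ^ r) := ⟨1, by rw [map_one, mul_one]⟩

lemma Dvd'.mono {r r' : ℤ} (h : r' ≤ r) {c : L} (hc : Dvd' r c) : Dvd' r' c := by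
  obtain ⟨a, rfl⟩ := hc
  obtain ⟨n, rfl⟩ := Int.le.dest h
  exact ⟨(p : W) ^ n * a, by
    rw [zpow_add₀ p_ne_zero, zpow_natCast, map_mul, map_pow, map_natCast]; ring⟩

lemma dvd'_mul_pow_iff (r m : ℤ) (c : L) : Dvd' r ((p : L) ^ m * c) ↔ Dvd' (r - m) c := by
  constructor
  · rintro ⟨a, ha⟩
    refine ⟨a, mul_left_cancel₀ (zpow_ne_zero m p_ne_zero) ?_⟩
    rw [ha, ← mul_assoc, ← zpow_add₀ p_ne_zero, add_sub_cancel]
  · intro h
    have := (dvd'_pow (p := p) (k := k) m).mul h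
    rwa [add_sub_cancel] at this

lemma dvd'_prod {ι : Type*} {s : Finset ι} {r : ℤ} {f : ι → L} (h : ∀ i ∈ s, Dvd' r (f i)) :
    Dvd' (s.card * r) (∏ i ∈ s, f i) := by
  classical
  induction s using Finset.induction with
  | empty => simpa using dvd'_one
  | insert a s has ih =>
    rw [Finset.card_insert_of_notMem has, Finset.prod_insert has]
    have := (h a (Finset.mem_insert_self a s)).mul (ih fun i hi => h i (Finset.mem_insert_of_mem hi))
    rw [Nat.cast_succ, add_mul, one_mul, add_comm]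
    exact this

lemma Dvd'.smul_algebraMap {r : ℤ} {c : L} (hc : Dvd' r c) (w : W) : Dvd' r (algebraMap W L w * c) := by
  simpa using (dvd'_algebraMap w).mul hc

lemma ordP_dvd' {c : L} {r : ℤ} (h : Isoc.IsOrdP c r) : Dvd' r c :=
  let ⟨u, hu⟩ := h; ⟨u, hu⟩

lemma ordP_ne_zero {c : L} {r : ℤ} (h : Isoc.IsOrdP c r) : c ≠ 0 := by
  obtain ⟨u, rfl⟩ := h
  exact mul_ne_zero (zpow_ne_zero r p_ne_zero)
    ((map_ne_zero_iff _ (IsFractionRing.injective W L)).2 u.ne_zero)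

lemma isOrdP_mul {c d : L} {r r' : ℤ} (hc : Isoc.IsOrdP c r) (hd : Isoc.IsOrdP d r') :
    Isoc.IsOrdP (c * d) (r + r') := by
  obtain ⟨u, rfl⟩ := hc
  obtain ⟨v, rfl⟩ := hd
  exact ⟨u * v, by rw [Units.val_mul, map_mul, zpow_add₀ p_ne_zero]; ring⟩

lemma isOrdP_inv {c : L} {r : ℤ} (hc : Isoc.IsOrdP c r) : Isoc.IsOrdP c⁻¹ (-r) := by
  obtain ⟨u, rfl⟩ := hc
  refine ⟨u⁻¹, ?_⟩
  rw [mul_inv, zpow_neg]
  congr 1
  exact inv_eq_of_mul_eq_one_right (by rw [← map_mul, Units.mul_inv, map_one])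

lemma isOrdP_pow (r : ℤ) : Isoc.IsOrdP ((p : L) ^ r) r := ⟨1, by rw [Units.val_one, map_one, mul_one]⟩

lemma isOrdP_one : Isoc.IsOrdP (1 : L) 0 := by simpa using isOrdP_pow (p := p) (k := k) 0

lemma le_of_dvd' {c : L} {r r' : ℤ} (hc : Isoc.IsOrdP c r) (h : Dvd' r' c) : r' ≤ r := by
  obtain ⟨u, rfl⟩ := hc
  rw [dvd'_mul_pow_iff] at h
  by_contra hlt
  obtain ⟨w, hw⟩ := (h.mono (show (1 : ℤ) ≤ r' - r by omega))
  rw [zpow_one, ← map_natCast (algebraMap W L) p, ← map_mul] at hw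
  have := (WittVector.irreducible p (k := k)).not_isUnit
  exact this (isUnit_of_mul_isUnit_left (IsFractionRing.injective W L hw ▸ u.isUnit))

lemma isOrdP_unique {c : L} {r r' : ℤ} (h : Isoc.IsOrdP c r) (h' : Isoc.IsOrdP c r') : r = r' :=
  le_antisymm (le_of_dvd' h' (ordP_dvd' h)) (le_of_dvd' h (ordP_dvd' h'))

variable {τ : L →+* L}

lemma Good.map_p (_hτ : Good τ) (r : ℤ) : τ ((p : L) ^ r) = (p : L) ^ r := by
  rw [map_zpow₀, map_natCast]

lemma Good.dvd' (hτ : Good τ) {r : ℤ} {c : L} (h : Dvd' r c) : Dvd' r (τ c) := by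
  obtain ⟨w, rfl⟩ := h
  obtain ⟨w', hw'⟩ := hτ.map_int w
  exact ⟨w', by rw [map_mul, hτ.map_p, hw']⟩

lemma Good.isOrdP (hτ : Good τ) {r : ℤ} {c : L} (h : Isoc.IsOrdP c r) : Isoc.IsOrdP (τ c) r := by
  obtain ⟨u, rfl⟩ := h
  obtain ⟨a, ha⟩ := hτ.map_int u
  obtain ⟨b, hb⟩ := hτ.map_int ↑u⁻¹
  have hab : a * b = 1 := IsFractionRing.injective W L (by
    rw [map_mul, ← ha, ← hb, ← map_mul, ← map_mul, Units.mul_inv, map_one, map_one])
  exact ⟨⟨a, b, hab, (mul_comm b a).trans hab⟩, by rw [map_mul, hτ.map_p, ha]⟩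

lemma good_id : Good (RingHom.id L) :=
  ⟨Function.bijective_id, fun w => ⟨w, rfl⟩, fun w => ⟨w, rfl⟩⟩

lemma Good.comp {σ : L →+* L} (hτ : Good τ) (hσ : Good σ) : Good (τ.comp σ) := by
  refine ⟨hτ.bij.comp hσ.bij, fun w => ?_, fun w => ?_⟩
  · obtain ⟨a, ha⟩ := hσ.map_int w
    obtain ⟨b, hb⟩ := hτ.map_int a
    exact ⟨b, by rw [RingHom.comp_apply, ha, hb]⟩
  · obtain ⟨a, ha⟩ := hτ.int_map w
    obtain ⟨b, hb⟩ := hσ.int_map a
    exact ⟨b, by rw [RingHom.comp_apply, hb, ha]⟩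

lemma Good.pow (hτ : Good τ) : ∀ n : ℕ, Good (τ ^ n)
  | 0 => good_id
  | n + 1 => by rw [pow_succ]; exact (Good.pow hτ n).comp hτ

lemma Good.frob [PerfectRing k p] (a : ℤ) : Good (Isoc.frob p k a) := by
  refine ⟨(IsFractionRing.ringEquivOfRingEquiv (WittVector.frobeniusEquiv p k ^ a)).bijective,
    fun w => ⟨_, Isoc.frob_algebraMap p k a w⟩, fun w => ⟨(WittVector.frobeniusEquiv p k ^ a).symm w, ?_⟩⟩
  rw [Isoc.frob_algebraMap, RingEquiv.apply_symm_apply]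

/-- `τ⁻¹`. -/
def Good.inv (hτ : Good τ) : L →+* L := (RingEquiv.ofBijective τ hτ.bij).symm.toRingHom

lemma Good.apply_inv (hτ : Good τ) (c : L) : τ (hτ.inv c) = c :=
  (RingEquiv.ofBijective τ hτ.bij).apply_symm_apply c

lemma Good.inv_apply (hτ : Good τ) (c : L) : hτ.inv (τ c) = c :=
  (RingEquiv.ofBijective τ hτ.bij).symm_apply_apply c

lemma Good.good_inv (hτ : Good τ) : Good hτ.inv :=
  ⟨(RingEquiv.ofBijective τ hτ.bij).symm.bijective,
    fun w => (hτ.int_map w).imp fun w' hw' => by rw [← hw', hτ.inv_apply],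
    fun w => (hτ.map_int w).imp fun w' hw' => by rw [← hw', hτ.inv_apply]⟩

lemma exists_isOrdP [PerfectRing k p] {c : L} (hc : c ≠ 0) : ∃ r, Isoc.IsOrdP c r := by
  obtain ⟨a, b, hb, rfl⟩ := IsFractionRing.div_surjective (A := W) c
  have ha : a ≠ 0 := fun h => hc (by rw [h, map_zero, zero_div])
  obtain ⟨i, u, rfl⟩ := WittVector.exists_eq_pow_p_mul' a ha
  obtain ⟨j, v, rfl⟩ := WittVector.exists_eq_pow_p_mul' b (nonZeroDivisors.ne_zero hb)
  refine ⟨(i : ℤ) + -(j : ℤ), ?_⟩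
  rw [div_eq_mul_inv]
  exact isOrdP_mul ⟨u, by rw [zpow_natCast, map_mul, map_pow, map_natCast]⟩
    (isOrdP_inv ⟨v, by rw [zpow_natCast, map_mul, map_pow, map_natCast]⟩)

lemma exists_dvd' [PerfectRing k p] (c : L) : ∃ r, Dvd' r c := by
  by_cases hc : c = 0
  · exact ⟨0, hc ▸ dvd'_zero 0⟩
  · exact (exists_isOrdP hc).imp fun r hr => ordP_dvd' hr

lemma eq_zero_of_forall_dvd' [PerfectRing k p] {c : L} (h : ∀ j : ℕ, Dvd' j c) : c = 0 := by
  by_contra hc
  obtain ⟨r, hr⟩ := exists_isOrdP hc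
  have := le_of_dvd' hr (h (r.toNat + 1))
  omega

section Module

variable {N : Type v} [AddCommGroup N] [Module W N] [Module L N] [IsScalarTower W L N]

/-- `b` is a `W`-basis of `M`. -/
def IsLatBasis {n : ℕ} (b : Module.Basis (Fin n) L N) (M : Submodule W N) : Prop :=
  ∀ x, x ∈ M ↔ ∀ i, Dvd' 0 (b.repr x i)

lemma exists_latBasis [PerfectRing k p] {n : ℕ} (hn : Module.finrank L N = n) {M : Submodule W N}
    (hM : M.IsLattice L) : ∃ b : Module.Basis (Fin n) L N, IsLatBasis b M := by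
  haveI := hM
  let e := Module.Free.chooseBasis W M
  let e' := e.extendOfIsLattice L
  haveI : Module.Finite W M := Module.Finite.iff_fg.2 hM.fg
  have hcard : Fintype.card (Module.Free.ChooseBasisIndex W M) = n := by
    rw [← hn, Module.finrank_eq_card_basis e']
  let r := Fintype.equivFinOfCardEq hcard
  refine ⟨e'.reindex r, fun x => ?_⟩
  constructor
  · intro hx i
    refine ⟨e.repr ⟨x, hx⟩ (r.symm i), ?_⟩
    rw [zpow_zero, one_mul, Module.Basis.repr_reindex, Finsupp.mapDomain_equiv_apply]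
    have h : x = ∑ j, algebraMap W L (e.repr ⟨x, hx⟩ j) • e' j := by
      have h0 := congrArg Subtype.val (e.sum_repr ⟨x, hx⟩)
      simp only [Submodule.coe_sum, SetLike.val_smul] at h0
      simp [e', algebraMap_smul, h0]
    conv_lhs => rw [h]
    rw [e'.repr_sum_self]
  · intro h
    rw [← (e'.reindex r).sum_repr x]
    refine Submodule.sum_mem _ fun i _ => ?_
    obtain ⟨w, hw⟩ := h i
    rw [hw, zpow_zero, one_mul, algebraMap_smul, Module.Basis.reindex_apply,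
      Module.Basis.extendOfIsLattice_apply]
    exact Submodule.smul_mem _ _ (e _).2

lemma mem_pPow_iff {r : ℤ} {M : Submodule W N} {x : N} :
    x ∈ Isoc.pPow r M ↔ (p : L) ^ (-r) • x ∈ M := by
  rw [Isoc.pPow, ← SetLike.mem_coe, Submodule.coe_pointwise_smul,
    Set.mem_smul_set_iff_inv_smul_mem₀ (zpow_ne_zero r p_ne_zero), SetLike.mem_coe, zpow_neg]

lemma smul_pow_mem {M : Submodule W N} {x : N} (hx : x ∈ M) {n : ℤ} (hn : 0 ≤ n) :
    (p : L) ^ n • x ∈ M := by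
  obtain ⟨m, rfl⟩ := Int.eq_ofNat_of_zero_le hn
  rw [zpow_natCast, ← map_natCast (algebraMap W L) p, ← map_pow, algebraMap_smul]
  exact M.smul_mem _ hx

lemma pPow_le_pPow {r r' : ℤ} (h : r ≤ r') (M : Submodule W N) : Isoc.pPow r' M ≤ Isoc.pPow r M := by
  intro x hx
  rw [mem_pPow_iff] at hx ⊢
  have := smul_pow_mem hx (show 0 ≤ r' - r by omega)
  rwa [smul_smul, ← zpow_add₀ p_ne_zero, show r' - r + -r' = -r by omega] at this

lemma pPow_zero' (M : Submodule W N) : Isoc.pPow 0 M = M := by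
  ext x
  rw [mem_pPow_iff, neg_zero, zpow_zero, one_smul]

lemma pPow_mono (r : ℤ) {M M' : Submodule W N} (h : M ≤ M') : Isoc.pPow r M ≤ Isoc.pPow r M' :=
  fun _ hx => mem_pPow_iff.2 (h (mem_pPow_iff.1 hx))

lemma pow_smul_mem_pPow_iff {r m : ℤ} {M : Submodule W N} {x : N} :
    (p : L) ^ m • x ∈ Isoc.pPow r M ↔ x ∈ Isoc.pPow (r - m) M := by
  rw [mem_pPow_iff, mem_pPow_iff, smul_smul, ← zpow_add₀ p_ne_zero, show -r + m = -(r - m) by omega]

lemma pow_smul_mem_pPow {m : ℤ} {M : Submodule W N} {x : N} (hx : x ∈ M) :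
    (p : L) ^ m • x ∈ Isoc.pPow m M := by
  rw [pow_smul_mem_pPow_iff, sub_self, pPow_zero']
  exact hx

lemma pPow_pPow (r r' : ℤ) (M : Submodule W N) : Isoc.pPow r (Isoc.pPow r' M) = Isoc.pPow (r + r') M := by
  ext x
  rw [mem_pPow_iff, pow_smul_mem_pPow_iff, show r' - -r = r + r' by omega]

lemma IsLatBasis.mem_pPow {n : ℕ} {b : Module.Basis (Fin n) L N} {M : Submodule W N} (hb : IsLatBasis b M)
    {r : ℤ} {x : N} : x ∈ Isoc.pPow r M ↔ ∀ i, Dvd' r (b.repr x i) := by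
  rw [mem_pPow_iff, hb]
  refine forall_congr' fun i => ?_
  rw [map_smul, Finsupp.smul_apply, smul_eq_mul, dvd'_mul_pow_iff, zero_sub, neg_neg]

lemma IsLatBasis.self_mem {n : ℕ} {b : Module.Basis (Fin n) L N} {M : Submodule W N} (hb : IsLatBasis b M)
    (i : Fin n) : b i ∈ M :=
  (hb _).2 fun j => by
    rw [b.repr_self, Finsupp.single_apply]
    split_ifs
    · exact dvd'_one
    · exact dvd'_zero 0

lemma IsLatBasis.eq_zero [PerfectRing k p] {n : ℕ} {b : Module.Basis (Fin n) L N} {M : Submodule W N}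
    (hb : IsLatBasis b M) {x : N} (h : ∀ j : ℕ, x ∈ Isoc.pPow (j : ℤ) M) : x = 0 :=
  b.repr.map_eq_zero_iff.1 (Finsupp.ext fun i => eq_zero_of_forall_dvd' fun j => hb.mem_pPow.1 (h j) i)

lemma eq_zero_of_forall_mem_pPow [PerfectRing k p] {M : Submodule W N}
    (hM : M.IsLattice L) {x : N} (h : ∀ j : ℕ, x ∈ Isoc.pPow (j : ℤ) M) : x = 0 :=
  let ⟨_, hb⟩ := exists_latBasis rfl hM
  hb.eq_zero h

lemma exists_mem_pPow [PerfectRing k p] {M : Submodule W N}
    (hM : M.IsLattice L) (x : N) : ∃ c : ℤ, x ∈ Isoc.pPow c M := by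
  obtain ⟨b, hb⟩ := exists_latBasis rfl hM
  choose r hr using fun i => exists_dvd' (b.repr x i)
  refine ⟨-∑ i, |r i|, hb.mem_pPow.2 fun i => (hr i).mono ?_⟩
  have := Finset.single_le_sum (f := fun j => |r j|) (fun j _ => abs_nonneg (r j)) (Finset.mem_univ i)
  have := neg_abs_le (r i)
  omega

lemma exists_le_pPow [PerfectRing k p] {M : Submodule W N}
    (hM : M.IsLattice L) {S : Submodule W N} (hS : S.FG) : ∃ c : ℤ, S ≤ Isoc.pPow c M := by
  classical
  obtain ⟨s, rfl⟩ := hS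
  choose c hc using fun x : N => exists_mem_pPow hM x
  refine ⟨-∑ x ∈ s, |c x|, Submodule.span_le.2 fun x hx => pPow_le_pPow ?_ M (hc x)⟩
  have := Finset.single_le_sum (f := fun y => |c y|) (fun y _ => abs_nonneg (c y)) hx
  have := neg_abs_le (c x)
  omega

lemma isLattice_pPow (r : ℤ) {M : Submodule W N} (hM : M.IsLattice L) : (Isoc.pPow r M).IsLattice L := by
  haveI := hM
  haveI : Module.Finite W M := Module.Finite.iff_fg.2 hM.fg
  refine ⟨?_, eq_top_iff.2 fun x _ => ?_⟩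
  · exact hM.fg.map (DistribSMul.toLinearMap W N ((p : L) ^ r))
  · have hx : (p : L) ^ (-r) • x ∈ Submodule.span L (M : Set N) := by rw [hM.span_eq_top]; trivial
    have h : Submodule.span L (M : Set N) ≤ Submodule.span L (Isoc.pPow r M : Set N) := by
      refine Submodule.span_le.2 fun y hy => ?_
      rw [show y = (p : L) ^ (-r) • ((p : L) ^ r • y) by rw [smul_smul, ← zpow_add₀ p_ne_zero, neg_add_cancel, zpow_zero, one_smul]]
      exact Submodule.smul_mem _ _ (Submodule.subset_span (pow_smul_mem_pPow hy))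
    have := Submodule.smul_mem _ ((p : L) ^ r) (h hx)
    rwa [smul_smul, ← zpow_add₀ p_ne_zero, add_neg_cancel, zpow_zero, one_smul] at this

variable (F : N →ₛₗ[τ] N)

lemma iterate_smul (n : ℕ) (c : L) (x : N) : (⇑F)^[n] (c • x) = (τ ^ n) c • (⇑F)^[n] x :=
  map_smulₛₗ (Isoc.iter F n) c x

lemma iterate_add (n : ℕ) (x y : N) : (⇑F)^[n] (x + y) = (⇑F)^[n] x + (⇑F)^[n] y :=
  map_add (Isoc.iter F n) x y

lemma iterate_zero' (n : ℕ) : (⇑F)^[n] (0 : N) = 0 :=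
  map_zero (Isoc.iter F n)

variable (hτ : Good τ)

include hτ

lemma iterate_smul_pow (n : ℕ) (m : ℤ) (x : N) :
    (⇑F)^[n] ((p : L) ^ m • x) = (p : L) ^ m • (⇑F)^[n] x := by
  rw [iterate_smul, (hτ.pow n).map_p]

lemma mem_latImg {s : ℕ} {M : Submodule W N} {x : N} :
    x ∈ Isoc.latImg F s M ↔ ∃ m ∈ M, (⇑F)^[s] m = x := by
  refine ⟨fun hx => ?_, fun ⟨m, hm, h⟩ => Submodule.subset_span ⟨m, hm, h⟩⟩
  induction hx using Submodule.span_induction with
  | mem x hx => exact hx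
  | zero => exact ⟨0, M.zero_mem, iterate_zero' F s⟩
  | add x y _ _ hx hy =>
    obtain ⟨a, ha, rfl⟩ := hx
    obtain ⟨b, hb, rfl⟩ := hy
    exact ⟨a + b, M.add_mem ha hb, iterate_add F s a b⟩
  | smul c x _ hx =>
    obtain ⟨a, ha, rfl⟩ := hx
    obtain ⟨c', hc'⟩ := (hτ.pow s).int_map c
    refine ⟨c' • a, M.smul_mem _ ha, ?_⟩
    rw [← algebraMap_smul L c' a, iterate_smul, hc', algebraMap_smul]

lemma latImg_le_iff {s : ℕ} {M S : Submodule W N} :
    Isoc.latImg F s M ≤ S ↔ ∀ m ∈ M, (⇑F)^[s] m ∈ S :=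
  ⟨fun h m hm => h ((mem_latImg F hτ).2 ⟨m, hm, rfl⟩), fun h x hx => by
    obtain ⟨m, hm, rfl⟩ := (mem_latImg F hτ).1 hx
    exact h m hm⟩

omit hτ

/-- `F^s(M) ⊆ p^r M`. -/
def Le (F : N →ₛₗ[τ] N) (M : Submodule W N) (s : ℕ) (r : ℤ) : Prop :=
  ∀ m ∈ M, (⇑F)^[s] m ∈ Isoc.pPow r M

include hτ

lemma le_iff {s : ℕ} {r : ℤ} {M : Submodule W N} : Isoc.latImg F s M ≤ Isoc.pPow r M ↔ Le F M s r :=
  latImg_le_iff F hτ

lemma isOrd_iff {s : ℕ} {r : ℤ} {M : Submodule W N} :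
    Isoc.IsOrd M F s r ↔ Le F M s r ∧ ¬ Le F M s (r + 1) := by
  rw [Isoc.IsOrd, le_iff F hτ, le_iff F hτ]

lemma Le.comp {M : Submodule W N} {s s' : ℕ} {r r' : ℤ} (h : Le F M s r) (h' : Le F M s' r') :
    Le F M (s + s') (r + r') := by
  intro m hm
  rw [Function.iterate_add_apply]
  have h2 := h _ (mem_pPow_iff.1 (h' m hm))
  rw [iterate_smul_pow F hτ, pow_smul_mem_pPow_iff, sub_neg_eq_add] at h2
  exact h2

lemma Le.iterate {M : Submodule W N} {s : ℕ} {r : ℤ} (h : Le F M s r) (j : ℕ) :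
    Le F M (s * j) (r * j) := by
  induction j with
  | zero => intro m hm; simpa [pPow_zero'] using hm
  | succ j ih => rw [Nat.mul_succ, Nat.cast_succ, mul_add, mul_one]; exact ih.comp F hτ h

omit hτ in
lemma Le.mono {M : Submodule W N} {s : ℕ} {r r' : ℤ} (h : Le F M s r) (hr : r' ≤ r) : Le F M s r' :=
  fun m hm => pPow_le_pPow hr M (h m hm)

omit hτ in
lemma twist_iterate_apply {m : ℤ} {n : ℕ} (x : N) :
    ((p : L) ^ m • Isoc.iter F n) x = (p : L) ^ m • (⇑F)^[n] x :=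
  rfl

lemma twist_iterate (m : ℤ) (n j : ℕ) (x : N) :
    (⇑((p : L) ^ m • Isoc.iter F n))^[j] x = (p : L) ^ (m * j) • (⇑F)^[n * j] x := by
  induction j with
  | zero => simp
  | succ j ih =>
    rw [Function.iterate_succ_apply', ih, twist_iterate_apply, iterate_smul_pow F hτ, smul_smul,
      ← zpow_add₀ p_ne_zero, Nat.mul_succ, add_comm (n * j), Function.iterate_add_apply, Nat.cast_succ]
    congr 2
    ring

lemma twist_le_iff {M : Submodule W N} {m r : ℤ} {n j : ℕ} :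
    Le ((p : L) ^ m • Isoc.iter F n) M j r ↔ Le F M (n * j) (r - m * j) := by
  refine forall_congr' fun x => forall_congr' fun _ => ?_
  rw [twist_iterate F hτ, pow_smul_mem_pPow_iff]

omit hτ in
lemma isIsoc_twist (hF : Isoc.IsIsoc F) (m : ℤ) (n : ℕ) : Isoc.IsIsoc ((p : L) ^ m • Isoc.iter F n) := by
  refine ⟨hF.finite, ?_⟩
  have hc : (p : L) ^ m ≠ 0 := zpow_ne_zero m p_ne_zero
  exact Function.Bijective.comp (g := fun y : N => (p : L) ^ m • y)
    ⟨smul_right_injective N hc, fun y => ⟨((p : L) ^ m)⁻¹ • y, smul_inv_smul₀ hc y⟩⟩ (hF.bijective.iterate n)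

end Module

end Groth.Agent.IsocLib
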