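import Groth.Agent.IsocLib.Classify
import Mathlib.Algebra.DirectSum.LinearMap
import Mathlib.LinearAlgebra.Matrix.Charpoly.Eigs
import Mathlib.LinearAlgebra.Matrix.Block
import Mathlib.RingTheory.WittVector.DiscreteValuationRing

/-!
# Newton slopes over a finite field
-/

noncomputable section

universe u v w

open Polynomial

namespace Groth.Agent.IsocLib

section General

variable {R : Type*} [CommRing R]

/-- The characteristic polynomial of a block diagonal matrix. -/
lemma charpoly_blockDiagonal' {ι : Type*} [Fintype ι] [LinearOrder ι] {κ : ι → Type*} [∀ i, Fintype (κ i)]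
    [∀ i, DecidableEq (κ i)] (M : ∀ i, Matrix (κ i) (κ i) R) :
    (Matrix.blockDiagonal' M).charpoly = ∏ i, (M i).charpoly := by
  have htri : (Matrix.blockDiagonal' M).charmatrix.BlockTriangular Sigma.fst := by
    rintro ⟨i, x⟩ ⟨j, y⟩ hij
    have hne : i ≠ j := fun e => (ne_of_gt hij) e
    rw [Matrix.charmatrix_apply_ne _ _ _ (by simp [hne]), Matrix.blockDiagonal'_apply_ne _ _ _ hne, map_zero, neg_zero]
  rw [Matrix.charpoly, htri.det_fintype]
  refine Finset.prod_congr rfl fun i _ => ?_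
  rw [Matrix.charpoly, ← Matrix.det_submatrix_equiv_self (Equiv.sigmaSubtype i).symm]
  congr 1
  refine Matrix.ext fun x y => ?_
  change (Matrix.blockDiagonal' M).charmatrix ⟨i, x⟩ ⟨i, y⟩ = (M i).charmatrix x y
  rw [Matrix.charmatrix_apply, Matrix.charmatrix_apply, Matrix.blockDiagonal'_apply_eq]
  by_cases h : x = y
  · subst h; simp
  · rw [Matrix.diagonal_apply_ne _ h, Matrix.diagonal_apply_ne _ (by simp [h])]

variable {M : Type*} [AddCommGroup M] [Module R M]

/-- The characteristic polynomial on an internal direct sum of stable pieces. -/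
lemma charpoly_eq_prod_restrict {ι : Type*} [Fintype ι] [LinearOrder ι] {N : ι → Submodule R M}
    [∀ i, Module.Finite R (N i)] [∀ i, Module.Free R (N i)] [Module.Finite R M] [Module.Free R M]
    (h : DirectSum.IsInternal N) {f : M →ₗ[R] M} (hf : ∀ i, Set.MapsTo f (N i) (N i)) :
    f.charpoly = ∏ i, (f.restrict (hf i)).charpoly := by
  classical
  let b : (i : ι) → Module.Basis _ R (N i) := fun i => Module.Free.chooseBasis R (N i)
  rw [← LinearMap.charpoly_toMatrix f (h.collectedBasis b), LinearMap.toMatrix_directSum_collectedBasis_eq_blockDiagonal' h h b b hf,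
    charpoly_blockDiagonal']
  exact Finset.prod_congr rfl fun i _ => LinearMap.charpoly_toMatrix _ (b i)

/-- Spectral values of an integral element are integral. -/
lemma isIntegral_of_mem_spectrum {Ω : Type*} [Field Ω] [Algebra R Ω] {A : Type*} [Ring A] [Algebra Ω A]
    [Algebra R A] [IsScalarTower R Ω A] {a : A} (ha : IsIntegral R a) {x : Ω} (hx : x ∈ spectrum Ω a) :
    IsIntegral R x := by
  cases subsingleton_or_nontrivial A
  · simp [spectrum.of_subsingleton] at hx
  obtain ⟨q, hq, hq0⟩ := ha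
  refine ⟨q, hq, ?_⟩
  have hq0' : aeval a (q.map (algebraMap R Ω)) = 0 := by rwa [aeval_map_algebraMap]
  have h1 := spectrum.subset_polynomial_aeval a (q.map (algebraMap R Ω)) ⟨x, hx, rfl⟩
  rw [hq0', spectrum.zero_eq, Set.mem_singleton_iff] at h1
  rw [← eval_map]
  exact h1

end General

variable {p : ℕ} [hp : Fact p.Prime] {k : Type u} [Field k] [CharP k p] [PerfectRing k p]

set_option hygiene false in
local notation "W" => WittVector p k
set_option hygiene false in
local notation "L" => FractionRing (WittVector p k)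

omit [PerfectRing k p] in
lemma isIntegral_end {P : Type v} [AddCommGroup P] [Module W P] [Module L P] [IsScalarTower W L P] {M : Submodule W P}
    (hM : M.IsLattice L) (u : P →ₗ[L] P) (hu : ∀ x ∈ M, u x ∈ M) : IsIntegral W (u : Module.End L P) := by
  haveI : Module.Finite W M := Module.Finite.iff_fg.2 hM.fg
  let uM : Module.End W M := (u.restrictScalars W).restrict hu
  obtain ⟨q, hq, hq0⟩ := LinearMap.exists_monic_and_aeval_eq_zero W uM
  refine ⟨q, hq, ?_⟩
  have key : ∀ (f : W[X]) (x : M), ((aeval uM f x : M) : P) = (aeval (u : Module.End L P) f) (x : P) := by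
    intro f
    induction f using Polynomial.induction_on' with
    | add f g hf hg => intro x; simp [map_add, hf, hg]
    | monomial n c =>
      intro x
      have hpow : ∀ (j : ℕ) (x : M), (((uM ^ j) x : M) : P) = ((u : Module.End L P) ^ j) (x : P) := by
        intro j
        induction j with
        | zero => intro x; rfl
        | succ j ih =>
          intro x
          rw [pow_succ', pow_succ', Module.End.mul_apply, Module.End.mul_apply, ← ih]
          rfl
      simp [aeval_monomial, Module.algebraMap_end_apply, ← Algebra.smul_def, hpow]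
  change aeval (u : Module.End L P) q = 0
  refine LinearMap.ext_on hM.span_eq_top fun x hx => ?_
  rw [LinearMap.zero_apply, ← key q ⟨x, hx⟩, hq0]
  rfl

omit [PerfectRing k p] in
lemma isIntegral_zpow_of_le {Ω : Type w} [Field Ω] [Algebra W Ω] [Algebra L Ω] [IsScalarTower W L Ω] {e : ℤ}
    (he : 0 ≤ e) : IsIntegral W (algebraMap L Ω (p : L) ^ e) := by
  obtain ⟨n, rfl⟩ := Int.eq_ofNat_of_zero_le he
  rw [zpow_natCast, map_natCast, ← map_natCast (algebraMap W Ω) p]
  exact isIntegral_algebraMap.pow n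

lemma zpow_not_isIntegral {Ω : Type w} [Field Ω] [Algebra W Ω] [Algebra L Ω] [IsScalarTower W L Ω] {e : ℤ}
    (he : e ≠ 0) (h1 : IsIntegral W (algebraMap L Ω (p : L) ^ e)) (h2 : IsIntegral W (algebraMap L Ω (p : L) ^ e)⁻¹) :
    False := by
  obtain ⟨n, hn0, hn⟩ : ∃ n : ℕ, n ≠ 0 ∧ IsIntegral W (algebraMap L Ω (p : L) ^ n)⁻¹ := by
    refine ⟨e.natAbs, Int.natAbs_ne_zero.2 he, ?_⟩
    rcases Int.natAbs_eq e with h | h
    · rw [h, zpow_natCast] at h2; exact h2
    · rw [h, zpow_neg, zpow_natCast] at h1; exact h1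
  rw [← map_pow, ← map_inv₀, isIntegral_algebraMap_iff (algebraMap L Ω).injective] at hn
  obtain ⟨y, hy⟩ := IsIntegrallyClosed.isIntegral_iff.1 hn
  have h3 : y * (p : W) ^ n = 1 := by
    apply IsFractionRing.injective W L
    rw [map_mul, map_pow, hy, map_natCast, map_one, inv_mul_cancel₀ (pow_ne_zero n p_ne_zero)]
  exact (WittVector.irreducible p).not_isUnit (((isUnit_pow_iff hn0).1 (IsUnit.of_mul_eq_one_right _ h3)))

variable {N : Type v} [AddCommGroup N] [Module W N] [Module L N] [IsScalarTower W L N]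
  {Ω : Type w} [Field Ω] [Algebra W Ω] [Algebra L Ω] [IsScalarTower W L Ω]

/-- The root condition of slope `μ`. -/
def RootCond (m : ℕ) (μ : ℚ) (α : Ω) : Prop :=
  IsIntegral W (α ^ μ.den * algebraMap L Ω (p : L) ^ (-(μ.num * (m : ℤ)))) ∧
    IsIntegral W (α ^ μ.den * algebraMap L Ω (p : L) ^ (-(μ.num * (m : ℤ))))⁻¹

/-- The roots on an isoclinic piece. -/
theorem root_cond [Module.Finite L N] {τ : L →+* L} (hτ : Good τ) {F : N →ₛₗ[τ] N} (hF : Isoc.IsIsoc F) {M : Submodule W N} {r : ℤ} {s : ℕ}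
    (hd : IsoData F M r s) {m : ℕ} (π : N →ₗ[L] N) (hπ : ∀ x, π x = (⇑F)^[m] x)
    {α : Ω} (hα : α ∈ (π.charpoly.map (algebraMap L Ω)).roots) :
    α ^ s * algebraMap L Ω (p : L) ^ (-(r * (m : ℤ))) ≠ 0 ∧
      IsIntegral W (α ^ s * algebraMap L Ω (p : L) ^ (-(r * (m : ℤ)))) ∧
      IsIntegral W (α ^ s * algebraMap L Ω (p : L) ^ (-(r * (m : ℤ))))⁻¹ := by
  classical
  let c : L := (p : L) ^ (-(r * (m : ℤ)))
  have hc : c ≠ 0 := zpow_ne_zero _ p_ne_zero
  let f : L[X] := C c * X ^ s
  let u : Module.End L N := aeval (π : Module.End L N) f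
  have hu : ∀ x, u x = (⇑((p : L) ^ (-r) • Isoc.iter F s))^[m] x := fun x => by
    have hpow : ∀ (j : ℕ) (x : N), ((π : Module.End L N) ^ j) x = (⇑F)^[m * j] x := by
      intro j
      induction j with
      | zero => intro x; rfl
      | succ j ih => intro x; rw [pow_succ, Module.End.mul_apply, ih, hπ, ← Function.iterate_add_apply, Nat.mul_succ]
    rw [twist_iterate F hτ, mul_comm s m]
    simp [u, f, c, hpow, Module.algebraMap_end_apply, neg_mul]
  have hmem := hd.2.2.iterate m
  have humem : ∀ x ∈ M, u x ∈ M := fun x hx => by rw [hu]; exact hmem.1 x hx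
  have hsurj : ∀ y ∈ M, ∃ x ∈ M, u x = y := fun y hy => by
    obtain ⟨x, hx, h⟩ := hmem.2 y hy
    exact ⟨x, hx, by rw [hu, h]⟩
  have htop : Function.Surjective u := by
    rw [← LinearMap.range_eq_top, eq_top_iff, ← hd.1.span_eq_top, Submodule.span_le]
    intro y hy
    obtain ⟨x, -, h⟩ := hsurj y hy
    exact ⟨x, h⟩
  let e := LinearEquiv.ofBijective u ⟨(LinearMap.injective_iff_surjective).2 htop, htop⟩
  have hvmem : ∀ y ∈ M, e.symm y ∈ M := fun y hy => by
    obtain ⟨x, hx, h⟩ := hsurj y hy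
    rwa [← h, show u x = e x from rfl, e.symm_apply_apply]
  let b := Module.finBasis L N
  let Φ : Module.End L N →ₐ[L] Matrix (Fin (Module.finrank L N)) (Fin (Module.finrank L N)) Ω :=
    (AlgHom.mapMatrix (Algebra.ofId L Ω)).comp (LinearMap.toMatrixAlgEquiv b).toAlgHom
  let U : (Matrix (Fin (Module.finrank L N)) (Fin (Module.finrank L N)) Ω)ˣ :=
    ⟨Φ u, Φ e.symm.toLinearMap,
      by rw [← map_mul, ← map_one Φ]; exact congrArg Φ (LinearMap.ext fun y => e.apply_symm_apply y),
      by rw [← map_mul, ← map_one Φ]; exact congrArg Φ (LinearMap.ext fun y => e.symm_apply_apply y)⟩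
  have hspec : α ^ s * algebraMap L Ω (p : L) ^ (-(r * (m : ℤ))) ∈ spectrum Ω (U : Matrix (Fin (Module.finrank L N)) (Fin (Module.finrank L N)) Ω) := by
    have h1 : α ∈ spectrum Ω (Φ (π : Module.End L N)) := by
      refine Matrix.mem_spectrum_of_isRoot_charpoly ?_
      have h2 := isRoot_of_mem_roots hα
      rw [← LinearMap.charpoly_toMatrix π b, ← Matrix.charpoly_map] at h2
      exact h2
    have h3 := spectrum.subset_polynomial_aeval (Φ (π : Module.End L N)) (f.map (algebraMap L Ω)) ⟨α, h1, rfl⟩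
    rw [aeval_map_algebraMap, aeval_algHom_apply] at h3
    have h5 : (f.map (algebraMap L Ω)).eval α = α ^ s * algebraMap L Ω (p : L) ^ (-(r * (m : ℤ))) := by
      simp only [f, c, Polynomial.map_mul, Polynomial.map_pow, map_C, map_X, eval_mul, eval_C, eval_pow, eval_X, map_zpow₀]
      exact mul_comm _ _
    rw [← h5]
    exact h3
  have h1 : IsIntegral W (U : Matrix (Fin (Module.finrank L N)) (Fin (Module.finrank L N)) Ω) :=
    (isIntegral_end hd.1 u humem).map (Φ.restrictScalars W)
  have h2 : IsIntegral W ((U⁻¹ : _ˣ) : Matrix (Fin (Module.finrank L N)) (Fin (Module.finrank L N)) Ω) :=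
    (isIntegral_end hd.1 e.symm.toLinearMap hvmem).map (Φ.restrictScalars W)
  exact ⟨spectrum.ne_zero_of_mem_of_unit hspec, isIntegral_of_mem_spectrum h1 hspec,
    isIntegral_of_mem_spectrum h2 (spectrum.inv₀_mem_iff.2 (by simpa using hspec))⟩

/-- The root condition characterises the slope of an isoclinic piece. -/
theorem rootCond_iff [Module.Finite L N] {τ : L →+* L} (hτ : Good τ) {F : N →ₛₗ[τ] N} (hF : Isoc.IsIsoc F) {ν : ℚ}
    (hν : Isoc.IsIsoclinic F ν) {m : ℕ} (hm : m ≠ 0) (π : N →ₗ[L] N) (hπ : ∀ x, π x = (⇑F)^[m] x) (μ : ℚ)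
    {α : Ω} (hα : α ∈ (π.charpoly.map (algebraMap L Ω)).roots) : RootCond (k := k) (p := p) m μ α ↔ μ = ν := by
  obtain ⟨M, r, s, hd, hrs⟩ := (isIsoclinic_iff hτ).1 hν
  obtain ⟨hne, h1, h2⟩ := root_cond hτ hF hd π hπ hα
  set P0 := algebraMap L Ω (p : L) with hP0
  have hP : P0 ≠ 0 := by rw [hP0, Ne, map_eq_zero]; exact p_ne_zero
  have hs := hd.2.1
  have hrs' : r * ν.den = ν.num * s := by
    have h := hrs
    rw [div_eq_iff (by exact_mod_cast hs.ne')] at h
    have h' : (ν.num : ℚ) = ν * ν.den := (Rat.mul_den_eq_num ν).symm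
    exact_mod_cast (show (r : ℚ) * ν.den = ν.num * s by rw [h, h']; ring)
  have hcomb : ∀ (g : ℤ) (d : ℕ) , (α ^ s * P0 ^ (-(r * (m : ℤ)))) ^ d =
      (α ^ d * P0 ^ (-(g * (m : ℤ)))) ^ s * P0 ^ ((g * s - r * d) * m) := fun g d => by
    have e1 : ∀ (z : ℤ) (j : ℕ), (P0 ^ z) ^ j = P0 ^ (z * j) := fun z j => by rw [zpow_mul, zpow_natCast]
    rw [mul_pow, mul_pow, e1, e1, ← pow_mul, ← pow_mul, mul_assoc, ← zpow_add₀ hP, mul_comm d s]
    congr 2
    ring
  constructor
  · rintro ⟨h3, h4⟩
    by_contra hμ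
    have he : (μ.num * s - r * μ.den) * (m : ℤ) ≠ 0 := by
      refine mul_ne_zero (fun h => hμ ?_) (Int.natCast_ne_zero.2 hm)
      rw [← hrs, ← Rat.num_div_den μ, div_eq_div_iff (by exact_mod_cast μ.den_pos.ne') (by exact_mod_cast hs.ne')]
      exact_mod_cast sub_eq_zero.1 h
    have hδ : α ^ μ.den * P0 ^ (-(μ.num * (m : ℤ))) ≠ 0 := by
      refine mul_ne_zero (pow_ne_zero _ fun h => hne ?_) (zpow_ne_zero _ hP)
      rw [h, zero_pow hs.ne', zero_mul]
    have h5 := hcomb μ.num μ.den
    refine zpow_not_isIntegral (k := k) (p := p) (Ω := Ω) he ?_ ?_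
    · rw [(eq_inv_mul_iff_mul_eq₀ (pow_ne_zero s hδ)).2 h5.symm, ← inv_pow]
      exact (h4.pow s).mul (h1.pow μ.den)
    · rw [(eq_inv_mul_iff_mul_eq₀ (pow_ne_zero s hδ)).2 h5.symm, mul_inv, inv_inv, ← inv_pow]
      exact (h3.pow s).mul (h2.pow μ.den)
  · rintro rfl
    have h5 := hcomb μ.num μ.den
    rw [hrs', sub_self, zero_mul, zpow_zero, mul_one] at h5
    refine ⟨IsIntegral.of_pow hs ?_, IsIntegral.of_pow hs ?_⟩
    · rw [← h5]; exact h1.pow _
    · rw [inv_pow, ← h5, ← inv_pow]; exact h2.pow _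

/-- The roots on an isoclinic piece, counted. -/
theorem countP_rootCond [Module.Finite L N] [IsAlgClosed Ω] {τ : L →+* L} (hτ : Good τ) {F : N →ₛₗ[τ] N}
    (hF : Isoc.IsIsoc F) {ν : ℚ} (hν : Isoc.IsIsoclinic F ν) {m : ℕ} (hm : m ≠ 0) (π : N →ₗ[L] N)
    (hπ : ∀ x, π x = (⇑F)^[m] x) (μ : ℚ) [DecidablePred (RootCond (p := p) (k := k) m μ : Ω → Prop)] :
    Multiset.countP (RootCond (p := p) (k := k) m μ) (π.charpoly.map (algebraMap L Ω)).roots =
      if μ = ν then Module.finrank L N else 0 := by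
  split_ifs with h
  · rw [Multiset.countP_eq_card.2 fun α hα => (rootCond_iff hτ hF hν hm π hπ μ hα).2 h,
      IsAlgClosed.card_roots_eq_natDegree, natDegree_map, LinearMap.charpoly_natDegree]
  · exact Multiset.countP_eq_zero.2 fun α hα h' => h ((rootCond_iff hτ hF hν hm π hπ μ hα).1 h')

theorem countP_roots_prod {ι : Type*} (s : Finset ι) (f : ι → Polynomial Ω) (hf : ∀ i ∈ s, f i ≠ 0) (P : Ω → Prop)
    [DecidablePred P] : Multiset.countP P (∏ i ∈ s, f i).roots = ∑ i ∈ s, Multiset.countP P (f i).roots := by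
  classical
  induction s using Finset.induction_on with
  | empty => simp
  | insert i s hi ih =>
    rw [Finset.prod_insert hi, Finset.sum_insert hi, roots_mul (mul_ne_zero (hf i (Finset.mem_insert_self i s))
      (Finset.prod_ne_zero_iff.2 fun j hj => hf j (Finset.mem_insert_of_mem hj))), Multiset.countP_add,
      ih fun j hj => hf j (Finset.mem_insert_of_mem hj)]

/-- Newton slopes from the characteristic polynomial over a finite field. -/
theorem newtonMult_eq_countP [IsAlgClosed Ω] {τ : L →+* L} (hτ : Good τ) {F : N →ₛₗ[τ] N}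
    (hF : Isoc.IsIsoc F) [Module.Finite L N] {m : ℕ} (hm : m ≠ 0) (π : N →ₗ[L] N)
    (hπ : ∀ x, π x = (⇑F)^[m] x) (μ : ℚ) [DecidablePred (RootCond (p := p) (k := k) m μ : Ω → Prop)] :
    Isoc.newtonMult F μ = Multiset.countP (RootCond (p := p) (k := k) m μ) (π.charpoly.map (algebraMap L Ω)).roots := by
  classical
  let s : Finset ℚ := insert μ (WellFoundedGT.finite_ne_bot_of_iSupIndep (iSupIndep_slopePart hτ hF)).toFinset
  have hs : ∀ ν, Isoc.slopePart F ν ≠ ⊥ → ν ∈ s := fun ν hν =>
    Finset.mem_insert_of_mem ((Set.Finite.mem_toFinset _).2 hν)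
  have hint : DirectSum.IsInternal fun i : s => Isoc.slopePart F i := by
    refine DirectSum.isInternal_submodule_of_iSupIndep_of_iSup_eq_top
      ((iSupIndep_slopePart hτ hF).comp Subtype.val_injective) ?_
    refine eq_top_iff.2 (iSup_slopePart hτ _ F hF le_rfl ▸ iSup_le fun ν => ?_)
    by_cases hν : Isoc.slopePart F ν = ⊥
    · rw [hν]; exact bot_le
    · exact le_iSup_of_le (⟨ν, hs ν hν⟩ : s) le_rfl
  have hstab : ∀ ν, ∀ x ∈ Isoc.slopePart F ν, F x ∈ Isoc.slopePart F ν := fun ν => (slopePart_mem hτ hF ν).fst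
  have hiso : ∀ ν, Isoc.IsIsoclinic (F.restrict (hstab ν)) ν := fun ν => (slopePart_mem hτ hF ν).snd
  have hmap : ∀ i : s, Set.MapsTo π (Isoc.slopePart F i) (Isoc.slopePart F i) := fun i x hx => by
    rw [hπ, ← coe_restrict_iterate (hstab i) m ⟨x, hx⟩]
    exact Subtype.mem _
  have hpiece : ∀ i : s, Multiset.countP (RootCond (p := p) (k := k) m μ)
      ((π.restrict (hmap i)).charpoly.map (algebraMap L Ω)).roots =
      if μ = (i : ℚ) then Isoc.newtonMult F μ else 0 := fun i => by
    rw [countP_rootCond hτ (isIsoc_restrict (hstab i) hF) (hiso i) hm _ (fun x => Subtype.ext ?_) μ]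
    · split_ifs with h
      · rw [h]; rfl
      · rfl
    · rw [coe_restrict_iterate]; exact hπ x
  rw [charpoly_eq_prod_restrict hint hmap, Polynomial.map_prod, countP_roots_prod _ _ fun i _ =>
    ((LinearMap.charpoly_monic _).map _).ne_zero, Finset.sum_congr rfl fun i _ => hpiece i]
  rw [Finset.sum_eq_single (⟨μ, Finset.mem_insert_self μ _⟩ : s) (fun i _ hi => if_neg fun e => hi (Subtype.ext e.symm))
    (fun h => absurd (Finset.mem_univ _) h), if_pos rfl]

end Groth.Agent.IsocLib
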