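import Groth.Agent.IsocLib.Hom

/-!
# Standard isocrystals
-/

noncomputable section

universe u v

namespace Groth.Agent.IsocLib

variable {p : ℕ} [hp : Fact p.Prime] {k : Type u} [Field k] [CharP k p]

set_option hygiene false in
local notation "W" => WittVector p k
set_option hygiene false in
local notation "L" => FractionRing (WittVector p k)

variable {τ : L →+* L} (hτ : Good τ) (d : ℤ) (h : ℕ)

lemma stdIsoc_single (j : Fin h) :
    Isoc.stdIsoc τ d h (Pi.single j 1) =
      (if (finRotate h j).val = 0 then (p : L) ^ d else 1) • Pi.single (finRotate h j) 1 := by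
  funext i
  rw [Isoc.stdIsoc_apply, Pi.smul_apply, smul_eq_mul]
  by_cases hi : i = finRotate h j
  · subst hi
    rw [Equiv.symm_apply_apply, Pi.single_eq_same, Pi.single_eq_same, map_one]
  · rw [Pi.single_eq_of_ne (fun e => hi (by rw [← e, Equiv.apply_symm_apply])), Pi.single_eq_of_ne hi, map_zero,
      mul_zero, mul_zero]

lemma stdIsoc_iterate (i : Fin h) :
    ∀ j, (hj : i.val + j < h) →
      (⇑(Isoc.stdIsoc τ d h))^[j] (Pi.single i 1) = Pi.single ⟨i.val + j, hj⟩ 1 := by
  intro j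
  induction j with
  | zero => intro hj; rfl
  | succ j ih =>
    intro hj
    rw [Function.iterate_succ_apply', ih (by omega), stdIsoc_single]
    obtain ⟨n, rfl⟩ : ∃ n, h = n + 1 := ⟨h - 1, by omega⟩
    have hrot : finRotate (n + 1) (⟨i.val + j, by omega⟩ : Fin (n + 1)) = ⟨i.val + j + 1, hj⟩ :=
      Fin.ext (by rw [coe_finRotate_of_ne_last (Fin.ne_of_val_ne (by simp; omega))])
    rw [hrot, if_neg (by simp), one_smul]
    rfl

include hτ in
lemma stdIsoc_iterate_h (i : Fin h) :
    (⇑(Isoc.stdIsoc τ d h))^[h] (Pi.single i 1) = (p : L) ^ d • Pi.single i 1 := by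
  obtain ⟨n, rfl⟩ : ∃ n, h = n + 1 := ⟨h - 1, by have := i.isLt; omega⟩
  have h1 := stdIsoc_iterate (τ := τ) d (n + 1) i (n - i.val) (by omega)
  have h2 := stdIsoc_iterate (τ := τ) d (n + 1) ⟨0, Nat.succ_pos n⟩ i.val (by simp only; omega)
  conv_lhs => rw [show (⇑(Isoc.stdIsoc τ d (n + 1)))^[n + 1] = (⇑(Isoc.stdIsoc τ d (n + 1)))^[i.val + 1 + (n - i.val)] from
    congrArg _ (by have := i.isLt; omega)]
  rw [Function.iterate_add_apply, h1, Function.iterate_succ_apply, stdIsoc_single]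
  have hlast : (⟨i.val + (n - i.val), by omega⟩ : Fin (n + 1)) = Fin.last n := Fin.ext (by simp; omega)
  rw [hlast, finRotate_last, if_pos (by simp), iterate_smul_pow _ hτ, show (0 : Fin (n + 1)) = ⟨0, Nat.succ_pos n⟩ from rfl, h2]
  congr 2
  exact Fin.ext (Nat.zero_add _)

include hτ in
lemma stdIsoc_iterate_eq (x : Fin h → L) :
    (⇑(Isoc.stdIsoc τ d h))^[h] x = (p : L) ^ d • fun i => (τ ^ h) (x i) := by
  conv_lhs => rw [pi_eq_sum_univ' x]
  change Isoc.iter (Isoc.stdIsoc τ d h) h _ = _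
  rw [map_sum]
  simp only [map_smulₛₗ, Isoc.iter_apply, stdIsoc_iterate_h hτ]
  funext j
  simp [Finset.sum_apply, Pi.single_apply, mul_comm]

include hτ in
lemma isIsoc_stdIsoc : Isoc.IsIsoc (Isoc.stdIsoc τ d h) := by
  refine ⟨inferInstance, ?_⟩
  have hc : ∀ i : Fin h, (if i.val = 0 then (p : L) ^ d else 1) ≠ 0 := fun i => by
    split_ifs
    · exact zpow_ne_zero d p_ne_zero
    · exact one_ne_zero
  refine ⟨fun x y hxy => funext fun i => hτ.bij.1 ?_, fun y => ?_⟩
  · have := congrFun hxy (finRotate h i)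
    rw [Isoc.stdIsoc_apply, Isoc.stdIsoc_apply, Equiv.symm_apply_apply] at this
    exact mul_left_cancel₀ (hc _) this
  · refine ⟨fun i => hτ.inv ((if (finRotate h i).val = 0 then (p : L) ^ d else 1)⁻¹ * y (finRotate h i)), funext fun i => ?_⟩
    rw [Isoc.stdIsoc_apply, hτ.apply_inv, Equiv.apply_symm_apply, mul_inv_cancel_left₀ (hc i)]

include hτ in
lemma isoData_stdIsoc (hh : 0 < h) :
    IsoData (Isoc.stdIsoc τ d h) (Submodule.span W (Set.range (Pi.basisFun L (Fin h)))) d h := by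
  refine ⟨⟨Submodule.fg_span (Set.finite_range _), ?_⟩, hh, ?_, ?_⟩
  · rw [eq_top_iff, ← (Pi.basisFun L (Fin h)).span_eq]
    exact Submodule.span_mono Submodule.subset_span
  all_goals
    have key : ∀ c : Fin h → W, (fun i => algebraMap W L (c i)) ∈ Submodule.span W (Set.range (Pi.basisFun L (Fin h))) := fun c => by
      refine (Submodule.mem_span_range_iff_exists_fun W).2 ⟨c, funext fun i => ?_⟩
      simp [Finset.sum_apply, Pi.single_apply, Algebra.smul_def]
    have key' : ∀ x ∈ Submodule.span W (Set.range (Pi.basisFun L (Fin h))), ∃ c : Fin h → W, x = fun i => algebraMap W L (c i) := fun x hx => by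
      obtain ⟨c, rfl⟩ := (Submodule.mem_span_range_iff_exists_fun W).1 hx
      exact ⟨c, funext fun i => by simp [Finset.sum_apply, Pi.single_apply, Algebra.smul_def]⟩
  · intro x hx
    obtain ⟨c, rfl⟩ := key' x hx
    rw [twist_iterate_apply, stdIsoc_iterate_eq hτ, smul_smul, ← zpow_add₀ p_ne_zero, neg_add_cancel, zpow_zero, one_smul]
    choose c' hc' using fun i => (hτ.pow h).map_int (c i)
    rw [funext hc']
    exact key c'
  · intro y hy
    obtain ⟨c, rfl⟩ := key' y hy
    choose c' hc' using fun i => (hτ.pow h).int_map (c i)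
    refine ⟨_, key c', ?_⟩
    rw [twist_iterate_apply, stdIsoc_iterate_eq hτ, smul_smul, ← zpow_add₀ p_ne_zero, neg_add_cancel, zpow_zero, one_smul]
    exact funext hc'

include hτ in
lemma isIsoclinic_stdIsoc (hh : 0 < h) : Isoc.IsIsoclinic (Isoc.stdIsoc τ d h) ((d : ℚ) / h) :=
  (isIsoclinic_iff hτ).2 ⟨_, d, h, isoData_stdIsoc hτ d h hh, rfl⟩

include hτ in
/-- Standard isocrystals with reduced slope are simple. -/
theorem stdIsoc_simple [PerfectRing k p] (hh : 0 < h) (hdh : Int.gcd d h = 1) {P : Submodule L (Fin h → L)}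
    (hP : ∀ x ∈ P, Isoc.stdIsoc τ d h x ∈ P) : P = ⊥ ∨ P = ⊤ := by
  have hF := isIsoc_stdIsoc hτ d h
  have hd' := (isoData_stdIsoc hτ d h hh).comap (f := P.subtype) (F := (Isoc.stdIsoc τ d h).restrict hP)
    (fun _ => rfl) (isIsoc_restrict hP hF) hF P.subtype_injective
  obtain ⟨b⟩ : Nonempty (Module.Basis (Fin (Module.finrank L P)) L P) := ⟨Module.finBasis L P⟩
  obtain ⟨e, he⟩ := exists_ord_detCoeff b hτ (isIsoc_restrict hP hF)
  have hkey := mul_eq_of_latImg_eq hτ (isIsoc_restrict hP hF) b he hd'.1 ((latImg_eq_iff hτ).2 hd'.2.2)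
  have hdvd : (h : ℤ) ∣ (Module.finrank L P : ℤ) :=
    (Int.isCoprime_iff_gcd_eq_one.2 (by rwa [Int.gcd_comm])).dvd_of_dvd_mul_left ⟨e, hkey⟩
  have hle : Module.finrank L P ≤ h := (Submodule.finrank_le P).trans (by simp)
  rcases Nat.eq_zero_or_pos (Module.finrank L P) with h0 | h0
  · exact Or.inl (Submodule.finrank_eq_zero.1 h0)
  · refine Or.inr (Submodule.eq_top_of_finrank_eq ?_)
    have := Nat.le_of_dvd h0 (Int.natCast_dvd_natCast.1 hdvd)
    simp only [Module.finrank_fin_fun]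
    omega

end Groth.Agent.IsocLib
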