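import Groth.Agent.IsocLib.Semisimple
import Groth.Agent.IsocLib.Std
import Mathlib.LinearAlgebra.Pi
import Mathlib.Algebra.DirectSum.Module

/-!
# The Dieudonné–Manin classification
-/

noncomputable section

universe u v

namespace Groth.Agent.IsocLib

variable {p : ℕ} [hp : Fact p.Prime] {k : Type u} [Field k] [CharP k p] [PerfectRing k p]

set_option hygiene false in
local notation "W" => WittVector p k
set_option hygiene false in
local notation "L" => FractionRing (WittVector p k)

variable [IsAlgClosed k] {a : ℤ} {N : Type v} [AddCommGroup N] [Module W N] [Module L N] [IsScalarTower W L N]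

local notation "τa" => Isoc.frob p k a

/-- A standard isocrystal inside a non-zero isocrystal. -/
theorem exists_std_hom (ha : a ≠ 0) [Nontrivial N] {F : N →ₛₗ[Isoc.frob p k a] N} (hF : Isoc.IsIsoc F) :
    ∃ (d : ℤ) (h : ℕ) (f : (Fin h → L) →ₗ[L] N), 0 < h ∧ Int.gcd d h = 1 ∧ Function.Injective f ∧
      ∀ x, F (f x) = f (Isoc.stdIsoc (Isoc.frob p k a) d h x) := by
  haveI := hF.finite
  have hτ := Good.frob (p := p) (k := k) a
  obtain ⟨μ, P, -, hP, -, -, hne, hiso⟩ := exists_split hτ hF
  haveI : Nontrivial P := Submodule.nontrivial_iff_ne_bot.2 hne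
  have hFP := isIsoc_restrict hP hF
  haveI := hFP.finite
  obtain ⟨M, r, s, hd, hrs⟩ := (isIsoclinic_iff hτ).1 hiso
  have hrs' : r * μ.den = μ.num * s := by
    have h1 := hrs
    rw [div_eq_iff (by exact_mod_cast hd.2.1.ne')] at h1
    have h2 : (μ.num : ℚ) = μ * μ.den := (Rat.mul_den_eq_num μ).symm
    exact_mod_cast (show (r : ℚ) * μ.den = μ.num * s by rw [h1, h2]; ring)
  let b := Module.finBasis L P
  obtain ⟨dP, hdP⟩ := exists_ord_detCoeff b hτ hFP
  have hmul := mul_eq_of_latImg_eq hτ hFP b hdP hd.1 ((latImg_eq_iff hτ).2 hd.2.2)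
  have hslope := isFirstSlope_of_latImg_eq hτ hFP hd.1 hd.2.1 ((latImg_eq_iff hτ).2 hd.2.2)
  have hle : (μ.num : ℝ) ≤ μ.den * ((r : ℝ) / s) := by
    have h3 : (r : ℝ) * μ.den = μ.num * s := by exact_mod_cast hrs'
    rw [mul_div, le_div_iff₀ (by exact_mod_cast hd.2.1)]
    linarith
  obtain ⟨M', hM', hle'⟩ := exists_le_of_le hτ hFP hslope hle
  have hmul' : μ.num * (Module.finrank L P : ℤ) = μ.den * dP := by
    refine mul_left_cancel₀ (show (s : ℤ) ≠ 0 by exact_mod_cast hd.2.1.ne') ?_
    linear_combination (μ.den : ℤ) * hmul - (Module.finrank L P : ℤ) * hrs'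
  have hlat := exists_latImg_eq_of_le hτ hFP b hdP hmul' hM' hle'
  obtain ⟨e, he⟩ := exists_pow_fixed_basis ha hFP ⟨hM', μ.den_pos, (latImg_eq_iff hτ).1 hlat⟩ rfl
  let i0 : Fin (Module.finrank L P) := ⟨0, Module.finrank_pos⟩
  let v : N := (e i0 : N)
  have hv : (⇑F)^[μ.den] v = (p : L) ^ μ.num • v := by
    rw [← coe_restrict_iterate hP μ.den (e i0), he i0]
    rfl
  let f : (Fin μ.den → L) →ₗ[L] N := (Pi.basisFun L (Fin μ.den)).constr L fun i => (⇑F)^[i.val] v
  have hfs : ∀ i : Fin μ.den, f (Pi.single i 1) = (⇑F)^[i.val] v := fun i => by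
    rw [← Pi.basisFun_apply L]
    exact Module.Basis.constr_basis _ _ _ i
  have hf : ∀ x, F (f x) = f (Isoc.stdIsoc (Isoc.frob p k a) μ.num μ.den x) :=
    LinearMap.congr_fun ((Pi.basisFun L (Fin μ.den)).ext (f₁ := F.comp f)
      (f₂ := f.comp (Isoc.stdIsoc (Isoc.frob p k a) μ.num μ.den)) fun i => by
      rw [Pi.basisFun_apply, LinearMap.comp_apply, LinearMap.comp_apply, hfs, stdIsoc_single, map_smul, hfs]
      obtain ⟨n, hn⟩ : ∃ n, μ.den = n + 1 := ⟨μ.den - 1, by have := μ.den_pos; omega⟩
      by_cases hlast : i.val + 1 < μ.den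
      · have : (finRotate μ.den i).val = i.val + 1 := by
          generalize μ.den = m at i hlast hn
          subst hn
          rw [coe_finRotate_of_ne_last (Fin.ne_of_val_ne (by simp; omega))]
        rw [this, if_neg (by omega), one_smul, Function.iterate_succ_apply']
      · have : (finRotate μ.den i).val = 0 := by
          generalize μ.den = m at i hlast hn
          subst hn
          rw [show i = Fin.last n from Fin.ext (by simp; omega), finRotate_last]
          rfl
        rw [this, if_pos rfl, ← Function.iterate_succ_apply' F, show i.val.succ = μ.den by have := i.isLt; omega, hv]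
        rfl)
  refine ⟨μ.num, μ.den, f, μ.den_pos, by simpa [Int.gcd, Nat.coprime_iff_gcd_eq_one] using μ.reduced, ?_, hf⟩
  rw [← LinearMap.ker_eq_bot]
  refine (stdIsoc_simple hτ μ.num μ.den μ.den_pos (by simpa [Int.gcd, Nat.coprime_iff_gcd_eq_one] using μ.reduced)
    fun x hx => ?_).resolve_right fun htop => ?_
  · rw [LinearMap.mem_ker, ← hf, LinearMap.mem_ker.1 hx, map_zero]
  · have h0 : f (Pi.single ⟨0, μ.den_pos⟩ 1) = 0 := LinearMap.mem_ker.1 (htop ▸ Submodule.mem_top)
    rw [hfs] at h0
    exact e.ne_zero i0 (Subtype.ext h0)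

/-- The product of the standard isocrystals maps onto any isocrystal. -/
theorem exists_std_equiv (ha : a ≠ 0) :
    ∀ (n : ℕ) {N : Type v} [AddCommGroup N] [Module W N] [Module L N] [IsScalarTower W L N]
      (F : N →ₛₗ[Isoc.frob p k a] N), Isoc.IsIsoc F → Module.finrank L N ≤ n →
      ∃ (ι : Type) (_ : Fintype ι) (d : ι → ℤ) (h : ι → ℕ) (g : ((i : ι) → Fin (h i) → L) ≃ₗ[L] N),
        (∀ i, 0 < h i ∧ Int.gcd (d i) (h i) = 1) ∧
          ∀ v, F (g v) = g fun i => Isoc.stdIsoc (Isoc.frob p k a) (d i) (h i) (v i) := by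
  classical
  intro n
  induction n with
  | zero =>
    intro N _ _ _ _ F hF hn
    haveI := hF.finite
    haveI : Subsingleton N := Module.finrank_zero_iff.1 (Nat.le_zero.1 hn)
    refine ⟨Empty, inferInstance, fun i => i.elim, fun i => i.elim, 0, fun i => i.elim, fun v => Subsingleton.elim _ _⟩
  | succ n ih =>
    intro N _ _ _ _ F hF hn
    haveI := hF.finite
    rcases subsingleton_or_nontrivial N with hN | hN
    · refine ⟨Empty, inferInstance, fun i => i.elim, fun i => i.elim, 0, fun i => i.elim, fun v => Subsingleton.elim _ _⟩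
    obtain ⟨d₀, h₀, f, hh₀, hg₀, hinj, hf⟩ := exists_std_hom ha hF
    obtain ⟨Q, hQ, hc⟩ := exists_stable_isCompl ha hF (P := LinearMap.range f) fun x ⟨y, hy⟩ => ⟨_, (hf y).symm.trans (congrArg F hy)⟩
    have hlt : Module.finrank L Q ≤ n := by
      have h1 := Submodule.finrank_add_eq_of_isCompl hc
      have h2 := LinearMap.finrank_range_of_inj hinj
      rw [Module.finrank_fin_fun] at h2
      omega
    obtain ⟨ι, hι, d, h, gQ, hdh, hgQ⟩ := ih (F.restrict hQ) (isIsoc_restrict hQ hF) hlt
    refine ⟨Option ι, inferInstance, fun i => i.elim d₀ d, fun i => i.elim h₀ h,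
      (LinearEquiv.piOptionEquivProd L (M := fun i : Option ι => Fin (i.elim h₀ h) → L)).trans
        (((LinearEquiv.ofInjective f hinj).prodCongr gQ).trans (Submodule.prodEquivOfIsCompl _ _ hc)),
      fun i => by cases i with
        | none => exact ⟨hh₀, hg₀⟩
        | some i => exact hdh i, fun v => ?_⟩
    change F (f (v none) + (gQ fun i => v (some i) : N)) = f (Isoc.stdIsoc _ d₀ h₀ (v none)) + (gQ _ : N)
    rw [map_add, hf]
    exact congrArg (f _ + ·) (congrArg Subtype.val (hgQ fun i => v (some i)))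

omit [IsAlgClosed k] in
lemma finrank_eq_sum_slopePart (hτ : Good (Isoc.frob p k a)) {F : N →ₛₗ[Isoc.frob p k a] N} (hF : Isoc.IsIsoc F)
    {s : Finset ℚ} (hs : ∀ μ, Isoc.slopePart F μ ≠ ⊥ → μ ∈ s) :
    Module.finrank L N = ∑ μ ∈ s, Module.finrank L (Isoc.slopePart F μ) := by
  classical
  haveI := hF.finite
  have hind := iSupIndep_slopePart hτ hF
  have htop := iSup_slopePart hτ _ F hF le_rfl
  have hint : DirectSum.IsInternal fun i : s => Isoc.slopePart F i := by
    refine DirectSum.isInternal_submodule_of_iSupIndep_of_iSup_eq_top (hind.comp Subtype.val_injective) ?_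
    refine eq_top_iff.2 (htop ▸ iSup_le fun μ => ?_)
    by_cases hμ : Isoc.slopePart F μ = ⊥
    · rw [hμ]; exact bot_le
    · exact le_iSup_of_le (⟨μ, hs μ hμ⟩ : s) le_rfl
  rw [Module.finrank_eq_card_basis (hint.collectedBasis fun i => Module.finBasis L (Isoc.slopePart F i)),
    Fintype.card_sigma]
  simp only [Fintype.card_fin]
  exact Finset.sum_coe_sort s fun μ => Module.finrank L (Isoc.slopePart F μ)

/-- Multiplicities of the slopes of a product of standard isocrystals. -/
theorem newtonMult_eq_sum {F : N →ₛₗ[Isoc.frob p k a] N} (hF : Isoc.IsIsoc F) {ι : Type} [Fintype ι] {d : ι → ℤ}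
    {h : ι → ℕ} (g : ((i : ι) → Fin (h i) → L) ≃ₗ[L] N) (hh : ∀ i, 0 < h i)
    (hg : ∀ v, F (g v) = g fun i => Isoc.stdIsoc (Isoc.frob p k a) (d i) (h i) (v i)) (μ : ℚ) :
    Isoc.newtonMult F μ = ∑ i, if (d i : ℚ) / h i = μ then h i else 0 := by
  classical
  haveI := hF.finite
  have hτ := Good.frob (p := p) (k := k) a
  let sl : ι → ℚ := fun i => (d i : ℚ) / h i
  have hle : ∀ ν, (∑ i, if sl i = ν then h i else 0) ≤ Isoc.newtonMult F ν := by
    intro ν
    have hmem : ∀ i : ι, sl i = ν → ∀ x, g (Pi.single i x) ∈ Isoc.slopePart F ν := by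
      intro i hi x
      let R := LinearMap.range (g.toLinearMap.comp (LinearMap.single L (fun j => Fin (h j) → L) i))
      have heq : ∀ x, F (g (Pi.single i x)) = g (Pi.single i (Isoc.stdIsoc (Isoc.frob p k a) (d i) (h i) x)) := fun x => by
        rw [hg]
        congr 1
        funext j
        rcases eq_or_ne j i with rfl | hj
        · rw [Pi.single_eq_same, Pi.single_eq_same]
        · rw [Pi.single_eq_of_ne hj, Pi.single_eq_of_ne hj, map_zero]
      have hR : ∀ y ∈ R, F y ∈ R := by
        rintro _ ⟨x, rfl⟩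
        exact ⟨_, (heq x).symm⟩
      refine le_slopePart hR ?_ ⟨x, rfl⟩
      rw [← hi]
      refine isIsoclinic_of_surjective hτ (isIsoclinic_stdIsoc hτ (d i) (h i) (hh i))
        (LinearMap.rangeRestrict _) (fun x => Subtype.ext (heq x).symm) (LinearMap.surjective_rangeRestrict _)
    let J := {i : ι // sl i = ν}
    let emb : ((i : J) → Fin (h i) → L) →ₗ[L] Isoc.slopePart F ν :=
      LinearMap.codRestrict _ (∑ i : J, g.toLinearMap.comp ((LinearMap.single L (fun j => Fin (h j) → L) i.1).comp (LinearMap.proj i)))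
        fun v => by
          rw [LinearMap.sum_apply]
          exact Submodule.sum_mem _ fun i _ => hmem i.1 i.2 _
    have hinj : Function.Injective emb := by
      intro v w hvw
      have hval : ∀ u, (emb u : N) = g (∑ i : J, Pi.single i.1 (u i)) := fun u => by
        simp only [emb, LinearMap.codRestrict_apply, LinearMap.sum_apply, LinearMap.comp_apply, LinearEquiv.coe_coe,
          LinearMap.proj_apply, LinearMap.single_apply, map_sum]
      have h1 := g.injective (((hval v).symm.trans (congrArg Subtype.val hvw)).trans (hval w))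
      funext i
      have h2 := congrFun h1 i.1
      rw [Finset.sum_apply, Finset.sum_apply, Finset.sum_eq_single i, Finset.sum_eq_single i] at h2
      · simpa using h2
      all_goals first
        | (intro j _ hj; exact Pi.single_eq_of_ne (fun e => hj (Subtype.ext e.symm)) _)
        | simp
    have h3 := LinearMap.finrank_le_finrank_of_injective hinj
    rw [Module.finrank_pi_fintype] at h3
    simp only [Module.finrank_fin_fun] at h3
    rw [← Finset.sum_filter, Finset.sum_subtype (p := fun i => sl i = ν) _ (fun i => by simp) h]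
    exact h3
  let s : Finset ℚ := insert μ (Finset.univ.image sl ∪
    (WellFoundedGT.finite_ne_bot_of_iSupIndep (iSupIndep_slopePart hτ hF)).toFinset)
  have hsum : ∑ ν ∈ s, (∑ i, if sl i = ν then h i else 0) = ∑ ν ∈ s, Isoc.newtonMult F ν := by
    rw [Finset.sum_comm]
    refine Eq.trans ?_ (finrank_eq_sum_slopePart hτ hF (s := s) fun ν hν =>
      Finset.mem_insert_of_mem (Finset.mem_union_right _ ((Set.Finite.mem_toFinset _).2 hν)))
    rw [← g.finrank_eq, Module.finrank_pi_fintype]
    refine Finset.sum_congr rfl fun i _ => ?_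
    rw [Finset.sum_ite_eq, if_pos (Finset.mem_insert_of_mem (Finset.mem_union_left _ (Finset.mem_image_of_mem sl (Finset.mem_univ i)))),
      Module.finrank_fin_fun]
  exact ((Finset.sum_eq_sum_iff_of_le fun ν _ => hle ν).1 hsum μ (Finset.mem_insert_self μ _)).symm

end Groth.Agent.IsocLib
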