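import Groth.Agent.IsocLib.Fitting
import Mathlib.Order.SupIndep

/-!
# The slope decomposition
-/

noncomputable section

universe u v

namespace Groth.Agent.IsocLib

variable {p : ℕ} [hp : Fact p.Prime] {k : Type u} [Field k] [CharP k p] [PerfectRing k p]

set_option hygiene false in
local notation "W" => WittVector p k
set_option hygiene false in
local notation "L" => FractionRing (WittVector p k)

variable {N : Type v} [AddCommGroup N] [Module W N] [Module L N] [IsScalarTower W L N]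
  {τ : L →+* L} {F : N →ₛₗ[τ] N} (hτ : Good τ)

include hτ

/-- Splitting off the first slope. -/
theorem exists_split [Nontrivial N] (hF : Isoc.IsIsoc F) :
    ∃ (μ : ℚ) (P Q : Submodule L N) (hP : ∀ x ∈ P, F x ∈ P), (∀ x ∈ Q, F x ∈ Q) ∧ IsCompl P Q ∧ P ≠ ⊥ ∧
      Isoc.IsIsoclinic (F.restrict hP) μ := by
  haveI := hF.finite
  obtain ⟨lam, hlam⟩ := exists_isFirstSlope hτ hF
  obtain ⟨r, s, M, hs, -, -, hM, hord, hne⟩ := exists_slope_eq_div hτ hF rfl hlam
  have hσ := hτ.pow s
  let G := (p : L) ^ (-r) • Isoc.iter F s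
  have hst : ∀ x ∈ M, G x ∈ M := fun x hx => by
    rw [twist_iterate_apply, ← mem_pPow_iff]
    exact ((isOrd_iff F hτ).1 hord).1 x hx
  have hG : Isoc.IsIsoc G := isIsoc_twist F hF (-r) s
  have hcomm : ∀ x, F (G x) = G (F x) := fun x => by
    simp only [G, twist_iterate_apply, map_smulₛₗ, hτ.map_p, ← Function.iterate_succ_apply,
      Function.iterate_succ_apply']
  have hP := stable_span_unitPart hσ hst hM hcomm hτ
  refine ⟨(r : ℚ) / s, _, nilSpace hσ hst, hP, stable_nilSpace hσ hst hM hcomm hτ,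
    isCompl_span_unitPart hσ hst hM hG, span_unitPart_ne_bot hσ hst hM hG hne, ?_⟩
  let P := Submodule.span L (unitPart M G : Set N)
  refine (isIsoclinic_iff hτ).2 ⟨(unitPart M G).comap (P.subtype.restrictScalars W), r, s,
    ⟨⟨?_, ?_⟩, hs, fun x hx => ?_, fun y hy => ?_⟩, rfl⟩
  · refine Submodule.fg_of_fg_map_injective (P.subtype.restrictScalars W) P.subtype_injective ?_
    exact hM.fg.of_le ((Submodule.map_comap_le _ _).trans (unitPart_le hσ))
  · refine Submodule.map_injective_of_injective (f := P.subtype) P.subtype_injective ?_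
    rw [Submodule.map_span, Submodule.map_top, Submodule.range_subtype]
    refine congrArg (Submodule.span L) ?_
    ext x
    exact ⟨fun ⟨y, hy, hyx⟩ => hyx ▸ hy, fun hx => ⟨⟨x, Submodule.subset_span hx⟩, hx, rfl⟩⟩
  · change P.subtype _ ∈ unitPart M G
    rw [twist_comm (F₂ := F) (fun _ => rfl)]
    exact apply_mem_unitPart hσ hst hx
  · obtain ⟨x, hx, hxy⟩ := surj_unitPart hσ hG _ hy
    refine ⟨⟨x, Submodule.subset_span hx⟩, hx, P.subtype_injective ?_⟩
    rw [twist_comm (F₂ := F) (fun _ => rfl)]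
    exact hxy

omit hτ
variable (hτ : Good τ)

omit [PerfectRing k p] [IsScalarTower W L N] in
lemma stable_bot : ∀ x ∈ (⊥ : Submodule L N), F x ∈ (⊥ : Submodule L N) := fun x hx => by
  rw [(Submodule.mem_bot L).1 hx, map_zero]; exact zero_mem _

omit [PerfectRing k p] [IsScalarTower W L N] in
lemma stable_map_subtype {P : Submodule L N} (hP : ∀ x ∈ P, F x ∈ P) {R : Submodule L P}
    (hR : ∀ x ∈ R, F.restrict hP x ∈ R) : ∀ x ∈ R.map P.subtype, F x ∈ R.map P.subtype := by
  rintro _ ⟨x, hx, rfl⟩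
  exact ⟨_, hR x hx, rfl⟩

include hτ in
omit [PerfectRing k p] in
lemma isIsoclinic_map_subtype {P : Submodule L N} (hP : ∀ x ∈ P, F x ∈ P) {R : Submodule L P}
    (hR : ∀ x ∈ R, F.restrict hP x ∈ R) {μ : ℚ} (h : Isoc.IsIsoclinic (N := ↥R) ((F.restrict hP).restrict hR) μ) :
    Isoc.IsIsoclinic (F.restrict (stable_map_subtype hP hR)) μ := by
  refine isIsoclinic_of_surjective hτ h
    ((Submodule.equivMapOfInjective P.subtype P.subtype_injective R).toLinearMap) (fun _ => Subtype.ext rfl) ?_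
  exact LinearEquiv.surjective _

include hτ in
omit [PerfectRing k p] in
lemma map_subtype_le_slopePart {P : Submodule L N} (hP : ∀ x ∈ P, F x ∈ P) (μ : ℚ)
    (hF : Isoc.IsIsoc F) : (Isoc.slopePart (F.restrict hP) μ).map P.subtype ≤ Isoc.slopePart F μ := by
  obtain ⟨hR, hiso⟩ := slopePart_mem hτ (isIsoc_restrict hP hF) μ
  exact le_slopePart (stable_map_subtype hP hR) (isIsoclinic_map_subtype hτ hP hR hiso)

include hτ in
theorem iSup_slopePart : ∀ (n : ℕ) {N : Type v} [AddCommGroup N] [Module W N] [Module L N] [IsScalarTower W L N]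
    (F : N →ₛₗ[τ] N), Isoc.IsIsoc F → Module.finrank L N ≤ n → ⨆ μ, Isoc.slopePart F μ = ⊤ := by
  intro n
  induction n with
  | zero =>
    intro N _ _ _ _ F hF hn
    haveI := hF.finite
    haveI : Subsingleton N := Module.finrank_zero_iff.1 (Nat.le_zero.1 hn)
    exact Subsingleton.elim _ _
  | succ n ih =>
    intro N _ _ _ _ F hF hn
    haveI := hF.finite
    rcases subsingleton_or_nontrivial N with hN | hN
    · exact Subsingleton.elim _ _
    obtain ⟨μ, P, Q, hP, hQ, hc, hne, hiso⟩ := exists_split hτ hF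
    refine eq_top_iff.2 (hc.sup_eq_top ▸ sup_le ((le_slopePart hP hiso).trans (le_iSup (Isoc.slopePart F) μ)) ?_)
    have hlt : Module.finrank L Q ≤ n := by
      have h1 := Submodule.finrank_add_eq_of_isCompl hc
      have h2 : 0 < Module.finrank L P := Nat.pos_of_ne_zero fun h => hne (Submodule.finrank_eq_zero.1 h)
      omega
    have h3 := congrArg (Submodule.map Q.subtype) (ih (F.restrict hQ) (isIsoc_restrict hQ hF) hlt)
    rw [Submodule.map_iSup, Submodule.map_top, Submodule.range_subtype] at h3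
    exact h3.ge.trans (iSup_mono fun ν => map_subtype_le_slopePart hτ hQ ν hF)

include hτ in
lemma eq_bot_of_two_slopes {P : Submodule L N} (hP : ∀ x ∈ P, F x ∈ P) (hF : Isoc.IsIsoc F) {μ ν : ℚ}
    (h₁ : Isoc.IsIsoclinic (F.restrict hP) μ) (h₂ : Isoc.IsIsoclinic (F.restrict hP) ν) (hne : μ ≠ ν) : P = ⊥ := by
  have h := hom_eq_zero (f := LinearMap.id) hτ (fun _ => rfl) h₁ h₂ (isIsoc_restrict hP hF) hne
  exact (Submodule.eq_bot_iff P).2 fun x hx => congrArg Subtype.val (LinearMap.congr_fun h ⟨x, hx⟩)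

include hτ in
theorem disjoint_slopePart (hF : Isoc.IsIsoc F) (s : Finset ℚ) :
    ∀ μ ∉ s, Disjoint (Isoc.slopePart F μ) (s.sup (Isoc.slopePart F)) := by
  induction s using Finset.induction with
  | empty => intro μ _; rw [Finset.sup_empty]; exact disjoint_bot_right
  | insert ν s hνs ih =>
    intro μ hμ
    rw [Finset.mem_insert, not_or] at hμ
    rw [Finset.sup_insert]
    obtain ⟨hA, hiA⟩ := slopePart_mem hτ hF μ
    obtain ⟨hC, hiC⟩ := slopePart_mem hτ hF ν
    let B := s.sup (Isoc.slopePart F)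
    have hB : B ≤ B.comap F := Finset.sup_le fun κ hκ x hx => by
      obtain ⟨h, -⟩ := slopePart_mem hτ hF κ
      exact Finset.le_sup (f := Isoc.slopePart F) hκ (h x hx)
    let X := Isoc.slopePart F μ ⊓ (Isoc.slopePart F ν ⊔ B)
    have hX : ∀ x ∈ X, F x ∈ X := fun x hx => ⟨hA x hx.1, by
      obtain ⟨a, ha, b, hb, rfl⟩ := Submodule.mem_sup.1 hx.2
      rw [map_add]
      exact Submodule.add_mem _ (Submodule.mem_sup_left (hC a ha)) (Submodule.mem_sup_right (hB hb))⟩
    have hiX : Isoc.IsIsoclinic (F.restrict hX) μ := by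
      refine isIsoclinic_of_injective hτ hiA (isIsoc_restrict hX hF) (isIsoc_restrict hA hF)
        (Submodule.inclusion inf_le_left) (fun _ => rfl) (Submodule.inclusion_injective _)
    have hFq := isIsoc_mapQ hF hB
    let Xq := X.map B.mkQ
    have hXq : ∀ x ∈ Xq, B.mapQ B F hB x ∈ Xq := by
      rintro _ ⟨x, hx, rfl⟩
      exact ⟨_, hX x hx, rfl⟩
    let Cq := (Isoc.slopePart F ν).map B.mkQ
    have hCq : ∀ x ∈ Cq, B.mapQ B F hB x ∈ Cq := by
      rintro _ ⟨x, hx, rfl⟩
      exact ⟨_, hC x hx, rfl⟩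
    have hiCq : Isoc.IsIsoclinic ((B.mapQ B F hB).restrict hCq) ν :=
      isIsoclinic_of_surjective hτ hiC (B.mkQ.restrict fun x hx => Submodule.mem_map_of_mem hx)
        (fun _ => Subtype.ext rfl) fun ⟨_, x, hx, rfl⟩ => ⟨⟨x, hx⟩, Subtype.ext rfl⟩
    have hle : Xq ≤ Cq := by
      refine (Submodule.map_mono inf_le_right).trans ?_
      rw [Submodule.map_sup]
      refine sup_le le_rfl ?_
      rintro _ ⟨b, hb, rfl⟩
      rw [Submodule.mkQ_apply, (Submodule.Quotient.mk_eq_zero B).2 hb]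
      exact zero_mem _
    have h₁ : Isoc.IsIsoclinic ((B.mapQ B F hB).restrict hXq) μ :=
      isIsoclinic_of_surjective hτ hiX (B.mkQ.restrict fun x hx => Submodule.mem_map_of_mem hx)
        (fun _ => Subtype.ext rfl) fun ⟨_, x, hx, rfl⟩ => ⟨⟨x, hx⟩, Subtype.ext rfl⟩
    have h₂ : Isoc.IsIsoclinic ((B.mapQ B F hB).restrict hXq) ν :=
      isIsoclinic_of_injective hτ hiCq (isIsoc_restrict hXq hFq) (isIsoc_restrict hCq hFq)
        (Submodule.inclusion hle) (fun _ => rfl) (Submodule.inclusion_injective _)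
    have hXB : X ≤ B := by
      have h0 : Xq = ⊥ := eq_bot_of_two_slopes hτ hXq hFq h₁ h₂ hμ.1
      intro x hx
      refine (Submodule.Quotient.mk_eq_zero B).1 ?_
      exact (Submodule.mem_bot L).1 (h0 ▸ Submodule.mem_map_of_mem (f := B.mkQ) hx)
    exact disjoint_iff_inf_le.2 fun x hx => (ih μ hμ.2).le_bot ⟨hx.1, hXB hx⟩

include hτ in
theorem iSupIndep_slopePart (hF : Isoc.IsIsoc F) : iSupIndep fun μ : ℚ => Isoc.slopePart F μ := by
  rw [iSupIndep_iff_supIndep]
  exact fun s t ht μ hμ hμt => disjoint_slopePart hτ hF t μ hμt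

end Groth.Agent.IsocLib
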