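import Groth.Agent.IsocLib.Basic
import Mathlib.LinearAlgebra.Matrix.NonsingularInverse
import Mathlib.LinearAlgebra.Matrix.ToLin

/-!
# The order of the determinant of a semilinear map
-/

noncomputable section

universe u v

open Matrix

namespace Groth.Agent.IsocLib

variable {p : ℕ} [hp : Fact p.Prime] {k : Type u} [Field k] [CharP k p]

set_option hygiene false in
local notation "W" => WittVector p k
set_option hygiene false in
local notation "L" => FractionRing (WittVector p k)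

variable {N : Type v} [AddCommGroup N] [Module W N] [Module L N] [IsScalarTower W L N]
  {τ ρ σ : L →+* L} {h : ℕ} (b : Module.Basis (Fin h) L N)

/-- The matrix of a semilinear map. -/
def mat (F : N →ₛₗ[τ] N) : Matrix (Fin h) (Fin h) L := Matrix.of fun i j => b.repr (F (b j)) i

lemma detCoeff_eq (F : N →ₛₗ[τ] N) : Isoc.detCoeff b F = (mat b F).det := rfl

lemma repr_apply (F : N →ₛₗ[τ] N) (x : N) :
    (b.repr (F x) : Fin h → L) = mat b F *ᵥ fun j => τ (b.repr x j) := by
  funext i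
  conv_lhs => rw [← b.sum_repr x]
  simp only [map_sum, map_smulₛₗ, Finsupp.coe_finsetSum, Finset.sum_apply, Finsupp.smul_apply, smul_eq_mul,
    Matrix.mulVec, dotProduct, mat, Matrix.of_apply, RingHom.id_apply]
  exact Finset.sum_congr rfl fun j _ => mul_comm _ _

lemma mat_comp (F : N →ₛₗ[τ] N) (G : N →ₛₗ[σ] N) (H : N →ₛₗ[ρ] N) (hH : ∀ x, H x = F (G x)) :
    mat b H = mat b F * (mat b G).map τ := by
  ext i j
  rw [mat, Matrix.of_apply, hH, repr_apply, Matrix.mul_apply]
  rfl

lemma detCoeff_comp (F : N →ₛₗ[τ] N) (G : N →ₛₗ[σ] N) (H : N →ₛₗ[ρ] N) (hH : ∀ x, H x = F (G x)) :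
    Isoc.detCoeff b H = Isoc.detCoeff b F * τ (Isoc.detCoeff b G) := by
  rw [detCoeff_eq, detCoeff_eq, detCoeff_eq, mat_comp b F G H hH, Matrix.det_mul, RingHom.map_det]
  rfl

lemma detCoeff_id (H : N →ₛₗ[ρ] N) (hH : ∀ x, H x = x) : Isoc.detCoeff b H = 1 := by
  rw [detCoeff_eq, show mat b H = 1 from ?_, Matrix.det_one]
  ext i j
  rw [mat, Matrix.of_apply, hH, b.repr_self, Finsupp.single_eq_pi_single, Pi.single_apply, Matrix.one_apply]

lemma detCoeff_smul (c : L) (F : N →ₛₗ[τ] N) :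
    Isoc.detCoeff b (c • F) = c ^ h * Isoc.detCoeff b F := by
  rw [detCoeff_eq, detCoeff_eq, show mat b (c • F) = c • mat b F from ?_, Matrix.det_smul, Fintype.card_fin]
  ext i j
  simp [mat]

variable {F : N →ₛₗ[τ] N} (hτ : Good τ) (hF : Isoc.IsIsoc F)

/-- The inverse map. -/
def invMap : N →ₛₗ[hτ.inv] N where
  toFun y := (Equiv.ofBijective F hF.bijective).symm y
  map_add' x y := hF.bijective.1 (by
    rw [F.map_add]
    simp only [Equiv.ofBijective_apply_symm_apply])
  map_smul' c x := hF.bijective.1 (by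
    rw [F.map_smulₛₗ, hτ.apply_inv]
    simp only [Equiv.ofBijective_apply_symm_apply])

lemma apply_invMap (y : N) : F (invMap hτ hF y) = y := Equiv.ofBijective_apply_symm_apply F hF.bijective y

lemma invMap_apply (x : N) : invMap hτ hF (F x) = x := Equiv.ofBijective_symm_apply_apply F hF.bijective x

lemma isIsoc_invMap : Isoc.IsIsoc (invMap hτ hF) :=
  ⟨hF.finite, (Equiv.ofBijective F hF.bijective).symm.bijective⟩

include hτ hF

lemma detCoeff_ne_zero : Isoc.detCoeff b F ≠ 0 := by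
  have h1 := detCoeff_comp b F (invMap hτ hF) LinearMap.id (fun x => (apply_invMap hτ hF x).symm)
  rw [detCoeff_id b LinearMap.id fun _ => rfl] at h1
  exact left_ne_zero_of_mul (h1 ▸ one_ne_zero)

lemma exists_ord_detCoeff [PerfectRing k p] : ∃ d, Isoc.IsOrdP (Isoc.detCoeff b F) d :=
  exists_isOrdP (detCoeff_ne_zero b hτ hF)

lemma isOrdP_detCoeff_invMap {d : ℤ} (hd : Isoc.IsOrdP (Isoc.detCoeff b F) d) :
    Isoc.IsOrdP (Isoc.detCoeff b (invMap hτ hF)) (-d) := by
  have h1 := detCoeff_comp b F (invMap hτ hF) LinearMap.id (fun x => (apply_invMap hτ hF x).symm)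
  rw [detCoeff_id b LinearMap.id fun _ => rfl] at h1
  have h2 : τ (Isoc.detCoeff b (invMap hτ hF)) = (Isoc.detCoeff b F)⁻¹ := eq_inv_of_mul_eq_one_right h1.symm
  have h3 := hτ.good_inv.isOrdP (isOrdP_inv hd)
  rwa [← h2, hτ.inv_apply] at h3

omit hF

lemma isOrdP_detCoeff_iter {d : ℤ} (hd : Isoc.IsOrdP (Isoc.detCoeff b F) d) (n : ℕ) :
    Isoc.IsOrdP (Isoc.detCoeff b (Isoc.iter F n)) (n * d) := by
  induction n with
  | zero =>
    rw [detCoeff_id b _ fun x => Isoc.iter_apply F 0 x, Nat.cast_zero, zero_mul]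
    exact isOrdP_one
  | succ n ih =>
    rw [detCoeff_comp b F (Isoc.iter F n) (Isoc.iter F (n + 1)) fun x => Function.iterate_succ_apply' _ _ _,
      Nat.cast_succ, add_mul, one_mul, add_comm]
    exact isOrdP_mul hd (hτ.isOrdP ih)

lemma isOrdP_detCoeff_twist {d : ℤ} (hd : Isoc.IsOrdP (Isoc.detCoeff b F) d) (m : ℤ) (n : ℕ) :
    Isoc.IsOrdP (Isoc.detCoeff b ((p : L) ^ m • Isoc.iter F n)) (m * h + n * d) := by
  rw [detCoeff_smul, ← zpow_natCast, ← zpow_mul]
  exact isOrdP_mul (isOrdP_pow _) (isOrdP_detCoeff_iter b hτ hd n)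

/-- The order of the determinant does not depend on the basis. -/
lemma isOrdP_detCoeff_basis [PerfectRing k p] (b' : Module.Basis (Fin h) L N) {d : ℤ}
    (hd : Isoc.IsOrdP (Isoc.detCoeff b F) d) : Isoc.IsOrdP (Isoc.detCoeff b' F) d := by
  let P : Matrix (Fin h) (Fin h) L := b.toMatrix b'
  have hP : P.det ≠ 0 := by
    have hh : P * b'.toMatrix b = 1 := Module.Basis.toMatrix_mul_toMatrix_flip b b'
    have := congrArg Matrix.det hh
    rw [Matrix.det_mul, Matrix.det_one] at this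
    exact left_ne_zero_of_mul (this ▸ one_ne_zero)
  have key : P * mat b' F = mat b F * P.map τ := by
    ext i j
    have h1 := congrFun (repr_apply b F (b' j)) i
    have h2 : P *ᵥ (b'.repr (F (b' j)) : Fin h → L) = b.repr (F (b' j)) :=
      Module.Basis.toMatrix_mulVec_repr b' b (F (b' j))
    exact ((congrFun h2 i).trans h1)
  have hdet := congrArg Matrix.det key
  rw [Matrix.det_mul, Matrix.det_mul] at hdet
  obtain ⟨e, he⟩ := exists_isOrdP hP
  have he' : Isoc.IsOrdP (P.map τ).det e := by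
    have := hτ.isOrdP he
    rwa [RingHom.map_det] at this
  have := isOrdP_mul (isOrdP_inv he) (hdet ▸ isOrdP_mul hd he' : Isoc.IsOrdP (P.det * (mat b' F).det) (d + e))
  rwa [← mul_assoc, inv_mul_cancel₀ hP, one_mul, ← add_assoc, neg_add_cancel_comm, ← detCoeff_eq] at this

omit hτ

variable {b} {M : Submodule W N} (hb : IsLatBasis b M)

include hb

lemma dvd'_mat {r : ℤ} (hr : ∀ m ∈ M, F m ∈ Isoc.pPow r M) (i j : Fin h) : Dvd' r (mat b F i j) :=
  hb.mem_pPow.1 (hr _ (hb.self_mem j)) i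

lemma dvd'_detCoeff {r : ℤ} (hr : ∀ m ∈ M, F m ∈ Isoc.pPow r M) : Dvd' (h * r) (Isoc.detCoeff b F) := by
  rw [detCoeff_eq, Matrix.det_apply']
  refine dvd'_sum fun σ _ => ?_
  have h1 := dvd'_prod (s := Finset.univ) (f := fun i => mat b F (σ i) i) fun i _ => dvd'_mat hb hr (σ i) i
  rw [Finset.card_univ, Fintype.card_fin] at h1
  have h2 : ((Equiv.Perm.sign σ : ℤ) : L) = algebraMap W L ((Equiv.Perm.sign σ : ℤ) : W) := (map_intCast _ _).symm
  rw [h2]
  exact h1.smul_algebraMap _

include hτ in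
/-- A stable lattice on which the determinant is a unit is mapped onto itself. -/
lemma exists_apply_eq (hr : ∀ m ∈ M, F m ∈ M) (hd : Isoc.IsOrdP (Isoc.detCoeff b F) 0) {y : N}
    (hy : y ∈ M) : ∃ x ∈ M, F x = y := by
  choose A hA using fun i j => dvd'_mat hb (r := 0) (fun m hm => (pPow_zero' M).symm ▸ hr m hm) i j
  choose c hc using (hb y).1 hy
  have hmap : mat b F = (Matrix.of A).map (algebraMap W L) := by
    ext i j
    rw [hA, zpow_zero, one_mul]
    rfl
  obtain ⟨u, hu⟩ := hd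
  have hdetA : IsUnit (Matrix.of A).det := by
    refine ⟨u, IsFractionRing.injective W L ?_⟩
    rw [detCoeff_eq, hmap, zpow_zero, one_mul] at hu
    rw [← hu, RingHom.map_det]
    rfl
  let z := (Matrix.of A)⁻¹ *ᵥ c
  choose z' hz' using fun i => hτ.int_map (z i)
  refine ⟨∑ i, algebraMap W L (z' i) • b i, (hb _).2 fun i => ?_, b.repr.injective (Finsupp.ext fun i => ?_)⟩
  · rw [b.repr_sum_self]
    exact dvd'_algebraMap _
  · have h1 := congrFun (repr_apply b F (∑ i, algebraMap W L (z' i) • b i)) i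
    rw [h1, hc, zpow_zero, one_mul, b.repr_sum_self, hmap]
    simp only [hz']
    have h2 : Matrix.of A *ᵥ z = c := by
      rw [Matrix.mulVec_mulVec, Matrix.mul_nonsing_inv _ hdetA, Matrix.one_mulVec]
    conv_rhs => rw [← h2]
    exact (RingHom.map_mulVec (algebraMap W L) (Matrix.of A) z i).symm

end Groth.Agent.IsocLib
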