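import Groth.Agent.IsocLib.Decomp
import Mathlib.LinearAlgebra.Matrix.Block
import Mathlib.Algebra.DirectSum.Module

/-!
# The determinant over the slope decomposition
-/

noncomputable section

universe u v

namespace Groth.Agent.IsocLib

variable {p : ℕ} [hp : Fact p.Prime] {k : Type u} [Field k] [CharP k p]

set_option hygiene false in
local notation "W" => WittVector p k
set_option hygiene false in
local notation "L" => FractionRing (WittVector p k)

variable {N : Type v} [AddCommGroup N] [Module W N] [Module L N] [IsScalarTower W L N]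
  {τ : L →+* L} {F : N →ₛₗ[τ] N}

lemma isOrdP_prod {ι : Type*} (s : Finset ι) (f : ι → L) (e : ι → ℤ) (h : ∀ i ∈ s, Isoc.IsOrdP (f i) (e i)) :
    Isoc.IsOrdP (∏ i ∈ s, f i) (∑ i ∈ s, e i) := by
  classical
  induction s using Finset.induction with
  | empty => exact isOrdP_one
  | insert a s ha ih =>
    rw [Finset.prod_insert ha, Finset.sum_insert ha]
    exact isOrdP_mul (h a (Finset.mem_insert_self a s)) (ih fun i hi => h i (Finset.mem_insert_of_mem hi))

variable [PerfectRing k p]

/-- The determinant over an internal decomposition into stable subspaces. -/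
theorem exists_basis_detCoeff_eq_prod {ι : Type} [Fintype ι] [LinearOrder ι] {P : ι → Submodule L N}
    (hint : DirectSum.IsInternal P) (hP : ∀ i, ∀ x ∈ P i, F x ∈ P i) {n : ι → ℕ}
    (v : ∀ i, Module.Basis (Fin (n i)) L (P i)) :
    ∃ b : Module.Basis (Fin (∑ i, n i)) L N,
      Isoc.detCoeff b F = ∏ i, Isoc.detCoeff (v i) (F.restrict (hP i)) := by
  classical
  let B := hint.collectedBasis v
  have hcard : Fintype.card (Σ i, Fin (n i)) = ∑ i, n i := by simp
  let e := Fintype.equivFinOfCardEq hcard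
  refine ⟨B.reindex e, ?_⟩
  let M : Matrix (Σ i, Fin (n i)) (Σ i, Fin (n i)) L := Matrix.of fun x y => B.repr (F (B y)) x
  have hmem : ∀ y : Σ i, Fin (n i), F (B y) ∈ P y.1 := fun y => by
    refine hP y.1 _ ?_
    rw [show B y = (v y.1 y.2 : N) by rw [DirectSum.IsInternal.collectedBasis_coe]]
    exact Subtype.coe_prop _
  have h1 : mat (B.reindex e) F = M.submatrix e.symm e.symm := by
    ext i j
    simp [mat, M, Finsupp.mapDomain_equiv_apply]
  rw [detCoeff_eq, h1, Matrix.det_submatrix_equiv_self]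
  have htri : M.BlockTriangular Sigma.fst := fun x y hxy => by
    obtain ⟨i, a⟩ := x
    exact hint.collectedBasis_repr_of_mem_ne v (ne_of_lt hxy) (hmem y)
  have hblock : ∀ i, (M.toSquareBlock Sigma.fst i).det = Isoc.detCoeff (v i) (F.restrict (hP i)) := fun i => by
    let f : Fin (n i) ≃ {x : Σ j, Fin (n j) // x.1 = i} :=
      { toFun := fun a => ⟨⟨i, a⟩, rfl⟩
        invFun := fun x => x.2 ▸ x.1.2
        left_inv := fun a => rfl
        right_inv := by rintro ⟨⟨j, a⟩, rfl⟩; rfl }
    rw [detCoeff_eq, ← Matrix.det_submatrix_equiv_self f]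
    congr 1
    ext a c
    simp only [Matrix.submatrix_apply, Matrix.toSquareBlock_def, Matrix.of_apply, mat, M]
    change B.repr (F (B ⟨i, c⟩)) ⟨i, a⟩ = _
    rw [hint.collectedBasis_repr_of_mem v (hmem ⟨i, c⟩)]
    congr 2
    exact Subtype.ext (congrArg F (by rw [DirectSum.IsInternal.collectedBasis_coe]; rfl))
  rw [htri.det]
  have h3 : ∀ i ∈ (Finset.univ : Finset ι), i ∉ Finset.univ.image (Sigma.fst : (Σ j, Fin (n j)) → ι) →
      Isoc.detCoeff (v i) (F.restrict (hP i)) = 1 := fun i _ hi => by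
    have hn : n i = 0 := by
      by_contra h
      exact hi (Finset.mem_image.2 ⟨⟨i, ⟨0, Nat.pos_of_ne_zero h⟩⟩, Finset.mem_univ _, rfl⟩)
    haveI : IsEmpty (Fin (n i)) := by rw [hn]; infer_instance
    rw [detCoeff_eq, Matrix.det_isEmpty]
  rw [← Finset.prod_subset (Finset.subset_univ _) h3]
  exact Finset.prod_congr rfl fun i _ => hblock i

theorem finsum_mul_newtonMult (hτ : Good τ) (hF : Isoc.IsIsoc F) {h : ℕ} (b : Module.Basis (Fin h) L N) {d : ℤ}
    (hd : Isoc.IsOrdP (Isoc.detCoeff b F) d) : ∑ᶠ μ : ℚ, μ * (Isoc.newtonMult F μ : ℚ) = d := by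
  classical
  haveI := hF.finite
  have hind := iSupIndep_slopePart hτ hF
  have htop := iSup_slopePart hτ _ F hF le_rfl
  have hfin : {μ : ℚ | Isoc.slopePart F μ ≠ ⊥}.Finite := WellFoundedGT.finite_ne_bot_of_iSupIndep hind
  let s := hfin.toFinset
  have hs : ∀ μ, Isoc.slopePart F μ ≠ ⊥ → μ ∈ s := fun μ hμ => hfin.mem_toFinset.2 hμ
  have hint : DirectSum.IsInternal fun i : s => Isoc.slopePart F i := by
    refine DirectSum.isInternal_submodule_of_iSupIndep_of_iSup_eq_top (hind.comp Subtype.val_injective) ?_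
    refine eq_top_iff.2 (htop ▸ iSup_le fun μ => ?_)
    by_cases hμ : Isoc.slopePart F μ = ⊥
    · rw [hμ]; exact bot_le
    · exact le_iSup_of_le (⟨μ, hs μ hμ⟩ : s) le_rfl
  choose hP hiso using fun i : s => slopePart_mem hτ hF (i : ℚ)
  let v : ∀ i : s, Module.Basis (Fin (Module.finrank L (Isoc.slopePart F i))) L (Isoc.slopePart F i) := fun i =>
    Module.finBasis L _
  obtain ⟨b', hb'⟩ := exists_basis_detCoeff_eq_prod hint hP v
  choose e he using fun i : s => exists_ord_detCoeff (v i) hτ (isIsoc_restrict (hP i) hF)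
  have hcard : (∑ i : s, Module.finrank L (Isoc.slopePart F i)) = h := by
    have h1 := Module.finrank_eq_card_basis b'
    rw [Module.finrank_eq_card_basis b, Fintype.card_fin, Fintype.card_fin] at h1
    exact h1.symm
  have hd' : Isoc.IsOrdP (Isoc.detCoeff (b'.reindex (finCongr hcard)) F) d := isOrdP_detCoeff_basis b hτ _ hd
  have hd2 : Isoc.detCoeff (b'.reindex (finCongr hcard)) F = Isoc.detCoeff b' F := by
    rw [detCoeff_eq, detCoeff_eq, ← Matrix.det_submatrix_equiv_self (finCongr hcard).symm (mat b' F)]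
    congr 1
    ext i j
    simp [mat, Finsupp.mapDomain_equiv_apply]
    rfl
  rw [hd2, hb'] at hd'
  have hde : ∑ i : s, e i = d := isOrdP_unique (isOrdP_prod Finset.univ _ e fun i _ => he i) hd'
  have hei : ∀ i : s, (i : ℚ) * (Isoc.newtonMult F i : ℚ) = (e i : ℚ) := fun i => by
    obtain ⟨M, r, t, hdata, hrt⟩ := (isIsoclinic_iff hτ).1 (hiso i)
    have := mul_eq_of_latImg_eq hτ (isIsoc_restrict (hP i) hF) (v i) (he i) hdata.1 ((latImg_eq_iff hτ).2 hdata.2.2)
    rw [Isoc.newtonMult]
    generalize Module.finrank L (Isoc.slopePart F i) = g at this ⊢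
    rw [← hrt, div_mul_eq_mul_div, div_eq_iff (by exact_mod_cast hdata.2.1.ne')]
    rw [mul_comm (e i : ℚ)]
    exact_mod_cast this
  rw [finsum_eq_sum_of_support_subset _ (s := s), ← Finset.sum_coe_sort]
  · rw [Finset.sum_congr rfl fun i _ => hei i, ← hde]
    push_cast
    rfl
  · intro μ hμ
    refine hs μ fun h0 => hμ ?_
    show μ * ((Module.finrank L (Isoc.slopePart F μ) : ℕ) : ℚ) = 0
    rw [Submodule.finrank_eq_zero.2 h0, Nat.cast_zero, mul_zero]

end Groth.Agent.IsocLib
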