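import Groth.Agent.IsocLib.Hom
import Mathlib.RingTheory.Artinian.Module

/-!
# The Fitting decomposition of a lattice under a semilinear endomorphism
-/

noncomputable section

universe u v

namespace Groth.Agent.IsocLib

variable {p : ℕ} [hp : Fact p.Prime] {k : Type u} [Field k] [CharP k p] [PerfectRing k p]

set_option hygiene false in
local notation "W" => WittVector p k
set_option hygiene false in
local notation "L" => FractionRing (WittVector p k)

lemma exists_limit_W (f : ℕ → W) (hf : ∀ j, (p : W) ^ j ∣ f (j + 1) - f j) :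
    ∃ w : W, ∀ j, (p : W) ^ j ∣ f j - w := by
  have hI : ∀ j : ℕ, ∀ x : W, x ∈ (Ideal.span {(p : W)} ^ j • ⊤ : Submodule W W) ↔ (p : W) ^ j ∣ x := by
    intro j x
    rw [smul_eq_mul, Ideal.mul_top, Ideal.span_singleton_pow, Ideal.mem_span_singleton]
  have hmn : ∀ a l : ℕ, (p : W) ^ a ∣ f (a + l) - f a := by
    intro a l
    induction l with
    | zero => simp
    | succ l ih =>
      rw [show f (a + (l + 1)) - f a = (f (a + l + 1) - f (a + l)) + (f (a + l) - f a) by rw [add_assoc]; ring]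
      exact dvd_add ((pow_dvd_pow _ (Nat.le_add_right a l)).trans (hf _)) ih
  obtain ⟨w, hw⟩ := IsPrecomplete.prec' (I := Ideal.span {(p : W)}) f (by
    intro m n hmn'
    obtain ⟨l, rfl⟩ := Nat.exists_eq_add_of_le hmn'
    rw [SModEq.sub_mem, hI, ← neg_sub, dvd_neg]
    exact hmn m l)
  exact ⟨w, fun j => (hI j _).1 (SModEq.sub_mem.1 (hw j))⟩

variable {N : Type v} [AddCommGroup N] [Module W N] [Module L N] [IsScalarTower W L N]
  {M : Submodule W N}

lemma exists_limit (hM : M.IsLattice L) (f : ℕ → N) (hfM : ∀ j, f j ∈ M)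
    (hf : ∀ j : ℕ, f (j + 1) - f j ∈ Isoc.pPow (j : ℤ) M) :
    ∃ u ∈ M, ∀ j : ℕ, f j - u ∈ Isoc.pPow (j : ℤ) M := by
  obtain ⟨b, hb⟩ := exists_latBasis rfl hM
  choose g hg using fun j i => (hb _).1 (hfM j) i
  simp only [zpow_zero, one_mul] at hg
  have hdiv : ∀ (j : ℕ) (w : W), Dvd' (j : ℤ) (algebraMap W L w) ↔ (p : W) ^ j ∣ w := fun j w => by
    constructor
    · rintro ⟨v, hv⟩
      rw [zpow_natCast, ← map_natCast (algebraMap W L) p, ← map_pow, ← map_mul] at hv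
      exact ⟨v, IsFractionRing.injective W L hv⟩
    · rintro ⟨v, rfl⟩
      exact ⟨v, by rw [zpow_natCast, map_mul, map_pow, map_natCast]⟩
  choose w hw using fun i => exists_limit_W (fun j => g j i) fun j => by
    rw [← hdiv, map_sub, ← hg, ← hg, ← Finsupp.sub_apply, ← map_sub]
    exact hb.mem_pPow.1 (hf j) i
  refine ⟨∑ i, algebraMap W L (w i) • b i, (hb _).2 fun i => ?_, fun j => hb.mem_pPow.2 fun i => ?_⟩
  · rw [b.repr_sum_self]
    exact dvd'_algebraMap _
  · rw [map_sub, Finsupp.sub_apply, b.repr_sum_self, hg, ← map_sub, hdiv]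
    exact hw i j

lemma exists_stationary [Module.Finite L N] (hM : M.IsLattice L) :
    ∀ (j : ℕ) (S : ℕ → Submodule W N), Antitone S → (∀ n, Isoc.pPow (j : ℤ) M ≤ S n ∧ S n ≤ M) →
      ∃ n₀, ∀ n, n₀ ≤ n → S n₀ ≤ S n := by
  intro j
  induction j with
  | zero => exact fun S _ hS => ⟨0, fun n _ => ((hS 0).2.trans (pPow_zero' M).ge).trans (hS n).1⟩
  | succ j ih =>
    intro S hanti hS
    obtain ⟨b, hb⟩ := exists_latBasis rfl hM
    obtain ⟨n₁, hn₁⟩ := IsArtinian.monotone_stabilizes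
      (⟨fun n => OrderDual.toDual (redSub hb (S n)), fun m n h => redSub_mono hb (hanti h)⟩ :
        ℕ →o (Submodule k (Fin (Module.finrank L N) → k))ᵒᵈ)
    obtain ⟨n₂, hn₂⟩ := ih (fun n => Isoc.pPow (-1) (S n ⊓ Isoc.pPow 1 M))
      (fun m n h => pPow_mono _ (inf_le_inf_right _ (hanti h)))
      (fun n => ⟨fun x hx => by
          rw [mem_pPow_iff, neg_neg]
          refine ⟨(hS n).1 ?_, ?_⟩
          · rw [pow_smul_mem_pPow_iff, Nat.cast_succ, add_sub_cancel_right]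
            exact hx
          · exact pow_smul_mem_pPow ((pPow_le_pPow (Int.natCast_nonneg j) M).trans (pPow_zero' M).le hx),
        fun x hx => by
          rw [mem_pPow_iff, neg_neg] at hx
          have := pow_smul_mem_pPow_iff.1 hx.2
          rwa [sub_self, pPow_zero'] at this⟩)
    refine ⟨max n₁ n₂, fun n hn x hx => ?_⟩
    have hle : redSub hb (S (max n₁ n₂)) ≤ redSub hb (S n) :=
      le_of_eq ((hn₁ _ (le_max_left n₁ n₂)).symm.trans (hn₁ n ((le_max_left n₁ n₂).trans hn)))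
    obtain ⟨y, hy, z, hz, rfl⟩ := Submodule.mem_sup.1 (le_sup_of_redSub_le hb (hS _).2 hle hx)
    refine (S n).add_mem hy ?_
    have hzS : z ∈ S (max n₁ n₂) := by
      have := (S (max n₁ n₂)).sub_mem hx (hanti hn hy)
      rwa [add_sub_cancel_left] at this
    have hz' : (p : L) ^ (-1 : ℤ) • z ∈ Isoc.pPow (-1) (S n₂ ⊓ Isoc.pPow 1 M) :=
      pow_smul_mem_pPow ⟨hanti (le_max_right n₁ n₂) hzS, hz⟩
    have := hn₂ n ((le_max_right n₁ n₂).trans hn) hz'
    rw [pow_smul_mem_pPow_iff, sub_self, pPow_zero'] at this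
    exact this.1

variable {τ σ : L →+* L} {F : N →ₛₗ[τ] N} {G : N →ₛₗ[σ] N} (hσ : Good σ)

variable (G M) in
/-- The unit-root part of a lattice. -/
def unitPart : Submodule W N := ⨅ n, Isoc.latImg G n M

omit [PerfectRing k p] in
include hσ in
lemma mem_unitPart {x : N} : x ∈ unitPart M G ↔ ∀ n, ∃ m ∈ M, (⇑G)^[n] m = x := by
  rw [unitPart, Submodule.mem_iInf]
  exact forall_congr' fun n => mem_latImg G hσ

omit [PerfectRing k p] in
include hσ in
lemma unitPart_le : unitPart M G ≤ M := fun x hx => by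
  obtain ⟨m, hm, rfl⟩ := (mem_unitPart hσ).1 hx 0
  exact hm

variable (hst : ∀ x ∈ M, G x ∈ M)

variable (G M) in
/-- Topological nilpotence. -/
def IsTopNil (x : N) : Prop := ∀ j : ℕ, ∃ n, (⇑G)^[n] x ∈ Isoc.pPow (j : ℤ) M

include hσ hst

omit [PerfectRing k p] in
lemma iterate_mem_pPow {r : ℤ} {x : N} (hx : x ∈ Isoc.pPow r M) (n : ℕ) : (⇑G)^[n] x ∈ Isoc.pPow r M := by
  rw [mem_pPow_iff] at hx ⊢
  rw [← iterate_smul_pow G hσ]
  exact stable_iterate hσ hst n _ hx

omit [PerfectRing k p] in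
lemma IsTopNil.mono {x : N} {j n n' : ℕ} (h : (⇑G)^[n] x ∈ Isoc.pPow (j : ℤ) M) (hn : n ≤ n') :
    (⇑G)^[n'] x ∈ Isoc.pPow (j : ℤ) M := by
  obtain ⟨l, rfl⟩ := Nat.exists_eq_add_of_le hn
  rw [add_comm, Function.iterate_add_apply]
  exact iterate_mem_pPow hσ hst h l

/-- The topologically nilpotent subspace. -/
def nilSpace : Submodule L N where
  carrier := {x | IsTopNil M G x}
  zero_mem' j := ⟨0, zero_mem _⟩
  add_mem' {x y} hx hy j := by
    obtain ⟨a, ha⟩ := hx j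
    obtain ⟨b, hb⟩ := hy j
    refine ⟨max a b, ?_⟩
    rw [iterate_add]
    exact Submodule.add_mem _ (IsTopNil.mono hσ hst ha (le_max_left a b)) (IsTopNil.mono hσ hst hb (le_max_right a b))
  smul_mem' c x hx j := by
    obtain ⟨r, hr⟩ := exists_dvd' c
    obtain ⟨n, hn⟩ := hx ((j : ℤ) - r).toNat
    refine ⟨n, ?_⟩
    obtain ⟨w, hw⟩ := (hσ.pow n).dvd' hr
    rw [iterate_smul, hw, mul_smul, pow_smul_mem_pPow_iff, algebraMap_smul]
    exact Submodule.smul_mem _ _ (pPow_le_pPow (Int.self_le_toNat _) M hn)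

omit [PerfectRing k p] hst in
lemma surj_unitPart (hG : Isoc.IsIsoc G) : ∀ y ∈ unitPart M G, ∃ x ∈ unitPart M G, G x = y := by
  intro y hy
  obtain ⟨x, rfl⟩ := hG.bijective.2 y
  refine ⟨x, (mem_unitPart hσ).2 fun n => ?_, rfl⟩
  obtain ⟨m, hm, hmx⟩ := (mem_unitPart hσ).1 hy (n + 1)
  rw [Function.iterate_succ_apply'] at hmx
  exact ⟨m, hm, hG.bijective.1 hmx⟩

omit [PerfectRing k p] in
lemma apply_mem_unitPart {x : N} (hx : x ∈ unitPart M G) : G x ∈ unitPart M G :=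
  (mem_unitPart hσ).2 fun n => by
    obtain ⟨m, hm, rfl⟩ := (mem_unitPart hσ).1 hx n
    exact ⟨G m, hst m hm, by rw [← Function.iterate_succ_apply, Function.iterate_succ_apply']⟩

omit hst in
lemma exists_pow_smul_mem_unitPart {x : N} (hx : x ∈ Submodule.span L (unitPart M G : Set N)) :
    ∃ r : ℤ, (p : L) ^ r • x ∈ unitPart M G := by
  induction hx using Submodule.span_induction with
  | mem x hx => exact ⟨0, by rwa [zpow_zero, one_smul]⟩
  | zero => exact ⟨0, by rw [smul_zero]; exact zero_mem _⟩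
  | add x y _ _ hx hy =>
    obtain ⟨a, ha⟩ := hx
    obtain ⟨b, hb⟩ := hy
    refine ⟨max a b, ?_⟩
    rw [smul_add]
    refine Submodule.add_mem _ ?_ ?_
    · have := smul_pow_mem ha (n := max a b - a) (by omega)
      rwa [smul_smul, ← zpow_add₀ p_ne_zero, sub_add_cancel] at this
    · have := smul_pow_mem hb (n := max a b - b) (by omega)
      rwa [smul_smul, ← zpow_add₀ p_ne_zero, sub_add_cancel] at this
  | smul c x _ hx =>
    obtain ⟨a, ha⟩ := hx
    obtain ⟨r, w, rfl⟩ := exists_dvd' c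
    refine ⟨a - r, ?_⟩
    rw [mul_smul, smul_smul, ← zpow_add₀ p_ne_zero, sub_add_cancel, smul_comm, algebraMap_smul]
    exact Submodule.smul_mem _ _ ha

variable [Module.Finite L N] (hM : M.IsLattice L)

include hM

/-- Elements of all the images that are killed at level `j` lie in `p ^ j M`. -/
lemma mem_pPow_of_killed (j : ℕ) {v : N}
    (hv : ∀ n, v ∈ Isoc.latImg G n M ⊔ Isoc.pPow (j : ℤ) M) {n : ℕ} (hn : (⇑G)^[n] v ∈ Isoc.pPow (j : ℤ) M) :
    v ∈ Isoc.pPow (j : ℤ) M := by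
  let B : ℕ → Submodule W N := fun i =>
    { carrier := {x | x ∈ M ∧ (⇑G)^[i] x ∈ Isoc.pPow (j : ℤ) M}
      zero_mem' := ⟨zero_mem _, by rw [iterate_zero']; exact zero_mem _⟩
      add_mem' := fun {a b} ha hb => ⟨M.add_mem ha.1 hb.1, by rw [iterate_add]; exact Submodule.add_mem _ ha.2 hb.2⟩
      smul_mem' := fun c x hx => ⟨M.smul_mem c hx.1, by
        obtain ⟨c', hc'⟩ := (hσ.pow i).map_int c
        rw [← algebraMap_smul L c x, iterate_smul, hc', algebraMap_smul]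
        exact Submodule.smul_mem _ _ hx.2⟩ }
  haveI : Module.Finite W M := Module.Finite.iff_fg.2 hM.fg
  obtain ⟨i₀, hi₀⟩ := monotone_stabilizes_iff_noetherian.2 (inferInstance : IsNoetherian W M)
    (⟨fun i => (B i).comap M.subtype, fun a b hab x hx => ⟨x.2, IsTopNil.mono hσ hst hx.2 hab⟩⟩ : ℕ →o Submodule W M)
  obtain ⟨y, hy, z, hz, rfl⟩ := Submodule.mem_sup.1 (hv i₀)
  obtain ⟨m, hm, rfl⟩ := (mem_latImg G hσ).1 hy
  refine Submodule.add_mem _ ?_ hz
  have h1 : (⇑G)^[n + i₀] m ∈ Isoc.pPow (j : ℤ) M := by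
    rw [Function.iterate_add_apply]
    have h2 := iterate_mem_pPow hσ hst hz n
    rw [iterate_add] at hn
    exact (Submodule.add_mem_iff_left _ h2).1 hn
  have h3 : (⟨m, hm⟩ : M) ∈ (B (n + i₀)).comap M.subtype := ⟨hm, h1⟩
  have h4 := hi₀ (n + i₀) (Nat.le_add_left i₀ n)
  rw [show (B (n + i₀)).comap M.subtype = (B i₀).comap M.subtype from h4.symm] at h3
  exact h3.2

omit hst in
lemma exists_pPow_le_latImg (hG : Isoc.IsIsoc G) (n : ℕ) : ∃ c : ℤ, Isoc.pPow c M ≤ Isoc.latImg G n M := by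
  have hH : Isoc.IsIsoc (Isoc.iter G n) := ⟨inferInstance, hG.bijective.iterate n⟩
  obtain ⟨r, hr⟩ := exists_le hM (invMap (hσ.pow n) hH) ((hσ.pow n).good_inv) 1
  refine ⟨-r, fun x hx => ?_⟩
  rw [mem_pPow_iff, neg_neg] at hx
  refine (mem_latImg G hσ).2 ⟨(p : L) ^ (-r) • invMap (hσ.pow n) hH ((p : L) ^ r • x), mem_pPow_iff.1 (hr _ hx), ?_⟩
  rw [iterate_smul_pow G hσ, ← Isoc.iter_apply, apply_invMap, smul_smul, ← zpow_add₀ p_ne_zero, neg_add_cancel,
    zpow_zero, one_smul]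

theorem exists_decomp (hG : Isoc.IsIsoc G) {x : N} (hx : x ∈ M) :
    ∃ u ∈ unitPart M G, x - u ∈ nilSpace hσ hst := by
  let A : ℕ → ℕ → Submodule W N := fun j n => Isoc.latImg G n M ⊔ Isoc.pPow (j : ℤ) M
  have hanti : ∀ j, Antitone (A j) := fun j => antitone_nat_of_succ_le fun n =>
    sup_le_sup_right ((latImg_le_iff G hσ).2 fun m hm => by
      rw [Function.iterate_succ_apply]
      exact (mem_latImg G hσ).2 ⟨G m, hst m hm, rfl⟩) _
  have hstat : ∀ j : ℕ, ∃ n₀, ∀ n, n₀ ≤ n → A j n₀ ≤ A j n := fun j =>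
    exists_stationary hM j (A j) (hanti j) fun n => ⟨le_sup_right,
      sup_le ((latImg_le_iff G hσ).2 fun m hm => stable_iterate hσ hst n m hm)
        ((pPow_le_pPow (Int.natCast_nonneg j) M).trans (pPow_zero' M).le)⟩
  have hex : ∀ j : ℕ, ∃ u : N, u ∈ M ∧ (∀ n, u ∈ A j n) ∧ ∃ n, (⇑G)^[n] (x - u) ∈ Isoc.pPow (j : ℤ) M := by
    intro j
    obtain ⟨n₀, hn₀⟩ := hstat j
    obtain ⟨a, ha, z, hz, hxz⟩ := Submodule.mem_sup.1
      (hn₀ (n₀ + n₀) (Nat.le_add_left _ _) (Submodule.mem_sup_left ((mem_latImg G hσ).2 ⟨x, hx, rfl⟩)))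
    obtain ⟨y, hy, rfl⟩ := (mem_latImg G hσ).1 ha
    refine ⟨(⇑G)^[n₀] y, stable_iterate hσ hst n₀ y hy, fun n => ?_, n₀, ?_⟩
    · rcases le_total n₀ n with h | h
      · exact hn₀ n h (Submodule.mem_sup_left ((mem_latImg G hσ).2 ⟨y, hy, rfl⟩))
      · exact hanti j h (Submodule.mem_sup_left ((mem_latImg G hσ).2 ⟨y, hy, rfl⟩))
    · change Isoc.iter G n₀ (x - (⇑G)^[n₀] y) ∈ _
      rw [map_sub]
      simp only [Isoc.iter_apply]
      rw [← hxz, ← Function.iterate_add_apply, add_sub_cancel_left]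
      exact hz
  choose u huM huA hun using hex
  have hcomp : ∀ j : ℕ, u (j + 1) - u j ∈ Isoc.pPow (j : ℤ) M := by
    intro j
    obtain ⟨a, ha⟩ := hun j
    obtain ⟨b, hb⟩ := hun (j + 1)
    refine mem_pPow_of_killed hσ hst hM j (fun n => Submodule.sub_mem _
      (sup_le_sup_left (pPow_le_pPow (by omega) M) _ (huA (j + 1) n)) (huA j n)) (n := max a b) ?_
    rw [show u (j + 1) - u j = (x - u j) - (x - u (j + 1)) by abel]
    change Isoc.iter G (max a b) _ ∈ _
    rw [map_sub]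
    exact Submodule.sub_mem _ (IsTopNil.mono hσ hst ha (le_max_left a b))
      (IsTopNil.mono hσ hst (pPow_le_pPow (by omega) M hb) (le_max_right a b))
  obtain ⟨l, hlM, hl⟩ := exists_limit hM u huM hcomp
  refine ⟨l, ?_, fun j => ?_⟩
  · rw [unitPart, Submodule.mem_iInf]
    intro n
    obtain ⟨c, hc⟩ := exists_pPow_le_latImg hσ hM hG n
    have h1 : l ∈ A c.toNat n := by
      rw [show l = u c.toNat - (u c.toNat - l) by abel]
      exact Submodule.sub_mem _ (huA _ n) (Submodule.mem_sup_right (hl _))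
    exact (sup_le le_rfl ((pPow_le_pPow (Int.self_le_toNat c) M).trans hc)) h1
  · obtain ⟨a, ha⟩ := hun j
    refine ⟨a, ?_⟩
    rw [show x - l = (x - u j) + (u j - l) by abel, iterate_add]
    exact Submodule.add_mem _ ha (iterate_mem_pPow hσ hst (hl j) a)

theorem isCompl_span_unitPart (hG : Isoc.IsIsoc G) :
    IsCompl (Submodule.span L (unitPart M G : Set N)) (nilSpace hσ hst) := by
  refine ⟨Submodule.disjoint_def.2 fun x hx hx' => ?_, codisjoint_iff.2 (eq_top_iff.2 ?_)⟩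
  · obtain ⟨r, hr⟩ := exists_pow_smul_mem_unitPart hσ hx
    have h0 : (p : L) ^ r • x = 0 := eq_zero_of_forall_mem_pPow hM fun j => by
      obtain ⟨n, hn⟩ := (nilSpace hσ hst).smul_mem ((p : L) ^ r) hx' j
      exact mem_pPow_of_killed hσ hst hM j (fun i => Submodule.mem_sup_left ((Submodule.mem_iInf _).1 hr i)) hn
    exact (smul_eq_zero.1 h0).resolve_left (zpow_ne_zero r p_ne_zero)
  · rw [← hM.span_eq_top, Submodule.span_le]
    intro x hx
    obtain ⟨u, hu, hxu⟩ := exists_decomp hσ hst hM hG hx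
    exact Submodule.mem_sup.2 ⟨u, Submodule.subset_span hu, x - u, hxu, by abel⟩

theorem span_unitPart_ne_bot (hG : Isoc.IsIsoc G) (hne : ∀ n, ¬ Le G M n 1) :
    Submodule.span L (unitPart M G : Set N) ≠ ⊥ := by
  intro hbot
  have htop := (isCompl_span_unitPart hσ hst hM hG).sup_eq_top
  rw [hbot, bot_sup_eq] at htop
  obtain ⟨b, hb⟩ := exists_latBasis rfl hM
  have : ∀ i, ∃ n, (⇑G)^[n] (b i) ∈ Isoc.pPow (1 : ℤ) M := fun i =>
    (show b i ∈ nilSpace hσ hst from htop ▸ Submodule.mem_top) 1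
  choose n hn using this
  refine hne (∑ i, n i) fun m hm => ?_
  choose w hw using (hb m).1 hm
  rw [← b.sum_repr m]
  change Isoc.iter G _ _ ∈ _
  rw [map_sum]
  refine Submodule.sum_mem _ fun i _ => ?_
  rw [map_smulₛₗ, hw, zpow_zero, one_mul]
  obtain ⟨w', hw'⟩ := (hσ.pow (∑ i, n i)).map_int (w i)
  rw [hw', algebraMap_smul]
  exact Submodule.smul_mem _ _
    (IsTopNil.mono (j := 1) hσ hst (hn i) (Finset.single_le_sum (fun j _ => Nat.zero_le (n j)) (Finset.mem_univ i)))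

variable (hcomm : ∀ x, F (G x) = G (F x)) (hτ : Good τ)

include hcomm hτ

omit [PerfectRing k p] hM in
lemma comm_iterate (n : ℕ) (x : N) : F ((⇑G)^[n] x) = (⇑G)^[n] (F x) := by
  induction n with
  | zero => rfl
  | succ n ih => rw [Function.iterate_succ_apply', hcomm, ih, Function.iterate_succ_apply']

lemma stable_nilSpace : ∀ x ∈ nilSpace hσ hst, F x ∈ nilSpace hσ hst := by
  intro x hx j
  obtain ⟨c, hc⟩ := exists_le hM F hτ 1
  obtain ⟨n, hn⟩ := hx ((j : ℤ) - c).toNat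
  refine ⟨n, ?_⟩
  rw [← comm_iterate hσ hst hcomm hτ]
  have h1 := mem_pPow_iff.1 (pPow_le_pPow (Int.self_le_toNat _) M hn)
  have h2 : F ((p : L) ^ (-((j : ℤ) - c)) • (⇑G)^[n] x) ∈ Isoc.pPow c M := hc _ h1
  rw [map_smulₛₗ, hτ.map_p, pow_smul_mem_pPow_iff, show c - -((j : ℤ) - c) = j by omega] at h2
  exact h2

lemma stable_span_unitPart : ∀ x ∈ Submodule.span L (unitPart M G : Set N),
    F x ∈ Submodule.span L (unitPart M G : Set N) := by
  obtain ⟨c, hc⟩ := exists_le hM F hτ 1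
  intro x hx
  refine (Submodule.span_le.2 ?_ : Submodule.span L (unitPart M G : Set N) ≤
    (Submodule.span L (unitPart M G : Set N)).comap F) hx
  intro u hu
  have h1 : (p : L) ^ (-c) • F u ∈ unitPart M G := (mem_unitPart hσ).2 fun n => by
    obtain ⟨m, hm, rfl⟩ := (mem_unitPart hσ).1 hu n
    refine ⟨(p : L) ^ (-c) • F m, mem_pPow_iff.1 (hc m hm), ?_⟩
    rw [iterate_smul_pow G hσ, comm_iterate hσ hst hcomm hτ]
  have h2 := Submodule.smul_mem _ ((p : L) ^ c) (Submodule.subset_span (R := L) h1)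
  rwa [smul_smul, ← zpow_add₀ p_ne_zero, add_neg_cancel, zpow_zero, one_smul] at h2

end Groth.Agent.IsocLib
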