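import Groth.Agent.IsocLib.Isoclinic

/-!
# Morphisms of isocrystals, stable subspaces, slope parts
-/

noncomputable section

universe u v w

namespace Groth.Agent.IsocLib

variable {p : ℕ} [hp : Fact p.Prime] {k : Type u} [Field k] [CharP k p]

set_option hygiene false in
local notation "W" => WittVector p k
set_option hygiene false in
local notation "L" => FractionRing (WittVector p k)

variable {N : Type v} [AddCommGroup N] [Module W N] [Module L N] [IsScalarTower W L N]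
  {N₂ : Type w} [AddCommGroup N₂] [Module W N₂] [Module L N₂] [IsScalarTower W L N₂]
  {τ : L →+* L} {F : N →ₛₗ[τ] N} {F₂ : N₂ →ₛₗ[τ] N₂} (hτ : Good τ)
  {f : N →ₗ[L] N₂} (hf : ∀ x, f (F x) = F₂ (f x))

include hf in
lemma iterate_comm (n : ℕ) (x : N) : f ((⇑F)^[n] x) = (⇑F₂)^[n] (f x) :=
  Function.Semiconj.iterate_right (f := f) hf n x

include hf in
lemma twist_comm (m : ℤ) (n : ℕ) (x : N) :
    f (((p : L) ^ m • Isoc.iter F n) x) = ((p : L) ^ m • Isoc.iter F₂ n) (f x) := by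
  rw [twist_iterate_apply, twist_iterate_apply, map_smul, iterate_comm hf]

include hτ in
lemma Stab.twist {r : ℤ} {s : ℕ} {M : Submodule W N} (h : Stab ((p : L) ^ (-r) • Isoc.iter F s) M) (j : ℕ) :
    Stab ((p : L) ^ (-(r * j)) • Isoc.iter F (s * j)) M := by
  have e : ∀ x, ((p : L) ^ (-(r * j)) • Isoc.iter F (s * j)) x = (⇑((p : L) ^ (-r) • Isoc.iter F s))^[j] x :=
    fun x => by rw [twist_iterate F hτ, twist_iterate_apply, neg_mul]
  refine ⟨fun x hx => ?_, fun y hy => ?_⟩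
  · rw [e]; exact (h.iterate j).1 x hx
  · obtain ⟨x, hx, hxy⟩ := (h.iterate j).2 y hy
    exact ⟨x, hx, (e x).trans hxy⟩

/-- Data of an isoclinic isocrystal. -/
def IsoData (F : N →ₛₗ[τ] N) (M : Submodule W N) (r : ℤ) (s : ℕ) : Prop :=
  M.IsLattice L ∧ 0 < s ∧ Stab ((p : L) ^ (-r) • Isoc.iter F s) M

include hτ in
lemma isIsoclinic_iff {μ : ℚ} :
    Isoc.IsIsoclinic F μ ↔ ∃ (M : Submodule W N) (r : ℤ) (s : ℕ), IsoData F M r s ∧ (r : ℚ) / s = μ := by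
  constructor
  · rintro ⟨M, hM, r, s, hs, hrs, hFM⟩
    exact ⟨M, r, s, ⟨hM, hs, (latImg_eq_iff hτ).1 hFM⟩, hrs⟩
  · rintro ⟨M, r, s, ⟨hM, hs, hS⟩, hrs⟩
    exact ⟨M, hM, r, s, hs, hrs, (latImg_eq_iff hτ).2 hS⟩

include hτ in
lemma IsoData.mul {M : Submodule W N} {r : ℤ} {s : ℕ} (h : IsoData F M r s) {j : ℕ} (hj : 0 < j) :
    IsoData F M (r * j) (s * j) :=
  ⟨h.1, Nat.mul_pos h.2.1 hj, h.2.2.twist hτ j⟩

include hf in
lemma IsoData.map {M : Submodule W N} {r : ℤ} {s : ℕ} (h : IsoData F M r s) (hsurj : Function.Surjective f) :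
    IsoData F₂ (M.map (f.restrictScalars W)) r s := by
  refine ⟨⟨h.1.fg.map _, ?_⟩, h.2.1, fun y hy => ?_, fun y hy => ?_⟩
  · rw [Submodule.map_coe, LinearMap.coe_restrictScalars, Submodule.span_image, h.1.span_eq_top,
      Submodule.map_top, LinearMap.range_eq_top.2 hsurj]
  · obtain ⟨x, hx, rfl⟩ := hy
    exact ⟨_, h.2.2.mem x hx, twist_comm hf _ _ x⟩
  · obtain ⟨x, hx, rfl⟩ := hy
    obtain ⟨z, hz, rfl⟩ := h.2.2.surj x hx
    exact ⟨_, ⟨z, hz, rfl⟩, (twist_comm hf _ _ z).symm⟩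

include hτ in
lemma isIsoclinic_of_surjective {μ : ℚ} (h : Isoc.IsIsoclinic F μ) (f : N →ₗ[L] N₂)
    (hf : ∀ x, f (F x) = F₂ (f x)) (hsurj : Function.Surjective f) : Isoc.IsIsoclinic F₂ μ := by
  obtain ⟨M, r, s, hd, hrs⟩ := (isIsoclinic_iff hτ).1 h
  exact (isIsoclinic_iff hτ).2 ⟨_, r, s, hd.map hf hsurj, hrs⟩

lemma map_mem_span {M : Submodule W N} (hM : M.IsLattice L) (i : N →ₗ[L] N₂) (x : N) :
    i x ∈ Submodule.span L (M.map (i.restrictScalars W) : Set N₂) := by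
  have h : i x ∈ (Submodule.span L (M : Set N)).map i := by
    rw [hM.span_eq_top]
    exact Submodule.mem_map_of_mem Submodule.mem_top
  rw [Submodule.map_span] at h
  exact h

variable [PerfectRing k p]

include hf in
lemma IsoData.comap {M : Submodule W N₂} {r : ℤ} {s : ℕ} (h : IsoData F₂ M r s) (hF : Isoc.IsIsoc F)
    (hF₂ : Isoc.IsIsoc F₂) (hinj : Function.Injective f) : IsoData F (M.comap (f.restrictScalars W)) r s := by
  haveI := hF₂.finite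
  refine ⟨⟨?_, eq_top_iff.2 fun x _ => ?_⟩, h.2.1, fun x hx => ?_, fun y hy => ?_⟩
  · refine Submodule.fg_of_fg_map_injective (f.restrictScalars W) hinj ?_
    exact h.1.fg.of_le (Submodule.map_comap_le _ _)
  · obtain ⟨c, hc⟩ := exists_mem_pPow h.1 (f x)
    have hx : (p : L) ^ (-c) • x ∈ M.comap (f.restrictScalars W) := by
      change f ((p : L) ^ (-c) • x) ∈ M
      rw [map_smul]
      exact mem_pPow_iff.1 hc
    have := Submodule.smul_mem _ ((p : L) ^ c) (Submodule.subset_span (R := L) hx)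
    rwa [smul_smul, ← zpow_add₀ p_ne_zero, add_neg_cancel, zpow_zero, one_smul] at this
  · change f _ ∈ M
    rw [twist_comm hf]
    exact h.2.2.mem _ hx
  · obtain ⟨m, hm, hmy⟩ := h.2.2.surj _ hy
    obtain ⟨x, rfl⟩ := (isIsoc_twist F hF (-r) s).bijective.2 y
    have e : f x = m := (isIsoc_twist F₂ hF₂ (-r) s).bijective.1 ((twist_comm hf _ _ x).symm.trans hmy.symm)
    exact ⟨x, show f x ∈ M from e.symm ▸ hm, rfl⟩

include hτ in
lemma isIsoclinic_of_injective {μ : ℚ} (h : Isoc.IsIsoclinic F₂ μ) (hF : Isoc.IsIsoc F) (hF₂ : Isoc.IsIsoc F₂)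
    (f : N →ₗ[L] N₂) (hf : ∀ x, f (F x) = F₂ (f x)) (hinj : Function.Injective f) : Isoc.IsIsoclinic F μ := by
  obtain ⟨M, r, s, hd, hrs⟩ := (isIsoclinic_iff hτ).1 h
  exact (isIsoclinic_iff hτ).2 ⟨_, r, s, hd.comap hf hF hF₂ hinj, hrs⟩

include hτ hf in
/-- No morphisms between different slopes. -/
theorem hom_eq_zero {μ₁ μ₂ : ℚ} (h₁ : Isoc.IsIsoclinic F μ₁) (h₂ : Isoc.IsIsoclinic F₂ μ₂)
    (hF₂ : Isoc.IsIsoc F₂) (hne : μ₁ ≠ μ₂) : f = 0 := by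
  haveI := hF₂.finite
  obtain ⟨M₁, r₁, s₁, hd₁, rfl⟩ := (isIsoclinic_iff hτ).1 h₁
  obtain ⟨M₂, r₂, s₂, hd₂, rfl⟩ := (isIsoclinic_iff hτ).1 h₂
  have e₁ := hd₁.mul hτ hd₂.2.1
  have e₂ := hd₂.mul hτ hd₁.2.1
  rw [mul_comm s₂ s₁] at e₂
  set S := s₁ * s₂ with hS
  set R₁ : ℤ := r₁ * s₂ with hR₁
  set R₂ : ℤ := r₂ * s₁ with hR₂
  have hR : R₁ ≠ R₂ := fun h => hne (by
    rw [div_eq_div_iff (by exact_mod_cast hd₁.2.1.ne') (by exact_mod_cast hd₂.2.1.ne')]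
    exact_mod_cast h)
  obtain ⟨c, hc⟩ := exists_le_pPow hd₂.1 (hd₁.1.fg.map (f.restrictScalars W))
  have hc' : ∀ x ∈ M₁, f x ∈ Isoc.pPow c M₂ := fun x hx => hc ⟨x, hx, rfl⟩
  have key : ∀ j : ℕ, ∀ x ∈ M₁, f x ∈ Isoc.pPow (c + |R₁ - R₂| * j) M₂ := by
    intro j x hx
    rcases lt_or_gt_of_ne hR with hlt | hlt
    · obtain ⟨y, hy, rfl⟩ := (e₁.2.2.iterate j).2 x hx
      rw [abs_of_neg (sub_neg.2 hlt), twist_iterate F hτ, map_smul, iterate_comm hf, pow_smul_mem_pPow_iff]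
      have h0 := (e₂.2.2.iterate j).1 _ (mem_pPow_iff.1 (hc' y hy))
      rw [twist_iterate F₂ hτ, iterate_smul_pow F₂ hτ, smul_smul, ← zpow_add₀ p_ne_zero] at h0
      rw [mem_pPow_iff]
      convert h0 using 3
      ring
    · have h0 := mem_pPow_iff.1 (hc' _ ((e₁.2.2.iterate j).1 x hx))
      rw [twist_iterate F hτ, map_smul, iterate_comm hf, smul_smul, ← zpow_add₀ p_ne_zero] at h0
      obtain ⟨z, hz, hzy⟩ := (e₂.2.2.iterate j).2 _ h0
      have e : f x = (p : L) ^ (c + (R₁ - R₂) * j) • z := by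
        apply (isIsoc_twist F₂ hF₂ (-R₂) S).bijective.iterate j |>.1
        rw [twist_iterate F₂ hτ, twist_iterate F₂ hτ, iterate_smul_pow F₂ hτ]
        rw [twist_iterate F₂ hτ] at hzy
        rw [smul_comm, hzy, smul_smul, ← zpow_add₀ p_ne_zero]
        congr 2
        ring
      rw [abs_of_pos (sub_pos.2 hlt), e]
      exact pow_smul_mem_pPow hz
  have hz : ∀ x ∈ M₁, f x = 0 := fun x hx => eq_zero_of_forall_mem_pPow hd₂.1 fun i => by
    obtain ⟨j, hj⟩ : ∃ j : ℕ, (i : ℤ) ≤ c + |R₁ - R₂| * j := by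
      refine ⟨i + c.natAbs, ?_⟩
      have h1 : (1 : ℤ) ≤ |R₁ - R₂| := Int.one_le_abs (sub_ne_zero.2 hR)
      have h2 : ((i + c.natAbs : ℕ) : ℤ) ≤ |R₁ - R₂| * ((i + c.natAbs : ℕ) : ℤ) :=
        le_mul_of_one_le_left (by positivity) h1
      omega
    exact pPow_le_pPow hj M₂ (key j x hx)
  exact LinearMap.ext_on hd₁.1.span_eq_top fun x hx => hz x hx

section Stable

omit [PerfectRing k p]

variable {P : Submodule L N} (hP : ∀ x ∈ P, F x ∈ P)

lemma coe_restrict_iterate (n : ℕ) (x : P) : (((⇑(F.restrict hP))^[n] x : P) : N) = (⇑F)^[n] (x : N) := by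
  induction n with
  | zero => rfl
  | succ n ih =>
    rw [Function.iterate_succ_apply', Function.iterate_succ_apply', ← ih]
    rfl

variable (hF : Isoc.IsIsoc F)

include hP hF in
omit [IsScalarTower W L N] in
lemma surj_stable : ∀ y ∈ P, ∃ x ∈ P, F x = y := by
  haveI := hF.finite
  let C : ℕ →o Submodule L N := ⟨fun n => P.comap (Isoc.iter F n), monotone_nat_of_le_succ fun n x hx => by
    change (⇑F)^[n + 1] x ∈ P
    rw [Function.iterate_succ_apply']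
    exact hP _ hx⟩
  obtain ⟨n, hn⟩ := monotone_stabilizes_iff_noetherian.2 (inferInstance : IsNoetherian L N) C
  intro y hy
  obtain ⟨x, rfl⟩ := hF.bijective.2 y
  obtain ⟨z, rfl⟩ := (hF.bijective.iterate n).2 x
  refine ⟨_, ?_, rfl⟩
  have h1 : z ∈ C (n + 1) := by
    change (⇑F)^[n + 1] z ∈ P
    rw [Function.iterate_succ_apply']
    exact hy
  rw [← hn (n + 1) (Nat.le_succ n)] at h1
  exact h1

include hF in
lemma isIsoc_restrict : Isoc.IsIsoc (F.restrict hP) := by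
  haveI := hF.finite
  refine ⟨inferInstance, fun x y h => Subtype.ext (hF.bijective.1 (congrArg Subtype.val h)), fun y => ?_⟩
  obtain ⟨x, hx, hxy⟩ := surj_stable hP hF y y.2
  exact ⟨⟨x, hx⟩, Subtype.ext hxy⟩

include hF in
lemma isIsoc_mapQ (hP' : P ≤ P.comap F) : Isoc.IsIsoc (P.mapQ P F hP') := by
  haveI := hF.finite
  refine ⟨inferInstance, (injective_iff_map_eq_zero _).2 fun q hq => ?_, fun q => ?_⟩
  · obtain ⟨x, rfl⟩ := P.mkQ_surjective q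
    rw [Submodule.mkQ_apply, Submodule.mapQ_apply, Submodule.Quotient.mk_eq_zero] at hq
    obtain ⟨z, hz, hzx⟩ := surj_stable (P := P) (fun a ha => hP' ha) hF (F x) hq
    rw [hF.bijective.1 hzx] at hz
    exact (Submodule.Quotient.mk_eq_zero P).2 hz
  · obtain ⟨y, rfl⟩ := P.mkQ_surjective q
    obtain ⟨x, rfl⟩ := hF.bijective.2 y
    exact ⟨P.mkQ x, rfl⟩

include hτ in
lemma isIsoclinic_mapQ {μ : ℚ} (h : Isoc.IsIsoclinic F μ) (hP' : P ≤ P.comap F) :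
    Isoc.IsIsoclinic (P.mapQ P F hP') μ :=
  isIsoclinic_of_surjective hτ h P.mkQ (fun _ => rfl) P.mkQ_surjective

include hτ hF in
lemma isIsoclinic_restrict [PerfectRing k p] {μ : ℚ} (h : Isoc.IsIsoclinic F μ) :
    Isoc.IsIsoclinic (F.restrict hP) μ :=
  isIsoclinic_of_injective hτ h (isIsoc_restrict hP hF) hF P.subtype (fun _ => rfl) P.subtype_injective

include hτ in
lemma isIsoclinic_of_subsingleton [Subsingleton N] (μ : ℚ) : Isoc.IsIsoclinic F μ := by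
  refine (isIsoclinic_iff hτ).2 ⟨⊥, μ.num, μ.den, ⟨⟨Submodule.fg_bot, Subsingleton.elim _ _⟩, μ.den_pos,
    fun x hx => ?_, fun y hy => ⟨0, zero_mem _, Subsingleton.elim _ _⟩⟩, μ.num_div_den⟩
  rw [Subsingleton.elim (((p : L) ^ (-μ.num) • Isoc.iter F μ.den) x) 0]
  exact zero_mem _

include hτ in
lemma isIsoclinic_restrict_sup {Q : Submodule L N} (hQ : ∀ x ∈ Q, F x ∈ Q) (hPQ : ∀ x ∈ P ⊔ Q, F x ∈ P ⊔ Q)
    {μ : ℚ} (h₁ : Isoc.IsIsoclinic (F.restrict hP) μ) (h₂ : Isoc.IsIsoclinic (F.restrict hQ) μ) :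
    Isoc.IsIsoclinic (F.restrict hPQ) μ := by
  obtain ⟨M₁, r₁, s₁, hd₁, he₁⟩ := (isIsoclinic_iff hτ).1 h₁
  obtain ⟨M₂, r₂, s₂, hd₂, he₂⟩ := (isIsoclinic_iff hτ).1 h₂
  have e₁ := hd₁.mul hτ hd₂.2.1
  have e₂ := hd₂.mul hτ hd₁.2.1
  have hR : r₂ * s₁ = r₁ * s₂ := by
    have h3 := he₂.trans he₁.symm
    rw [div_eq_div_iff (by exact_mod_cast hd₂.2.1.ne') (by exact_mod_cast hd₁.2.1.ne')] at h3
    exact_mod_cast h3
  rw [mul_comm s₂ s₁, hR] at e₂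
  let i₁ := Submodule.inclusion (le_sup_left : P ≤ P ⊔ Q)
  let i₂ := Submodule.inclusion (le_sup_right : Q ≤ P ⊔ Q)
  have hi₁ : ∀ x, i₁ (F.restrict hP x) = F.restrict hPQ (i₁ x) := fun _ => rfl
  have hi₂ : ∀ x, i₂ (F.restrict hQ x) = F.restrict hPQ (i₂ x) := fun _ => rfl
  refine (isIsoclinic_iff hτ).2 ⟨M₁.map (i₁.restrictScalars W) ⊔ M₂.map (i₂.restrictScalars W), r₁ * s₂, s₁ * s₂,
    ⟨⟨Submodule.FG.sup (e₁.1.fg.map _) (e₂.1.fg.map _), ?_⟩, e₁.2.1, fun x hx => ?_, fun y hy => ?_⟩, ?_⟩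
  · refine eq_top_iff.2 fun x _ => ?_
    obtain ⟨a, ha, b, hb, hab⟩ := Submodule.mem_sup.1 x.2
    have hx : x = i₁ ⟨a, ha⟩ + i₂ ⟨b, hb⟩ := Subtype.ext hab.symm
    rw [hx]
    exact Submodule.add_mem _ (Submodule.span_mono (SetLike.coe_subset_coe.2 le_sup_left) (map_mem_span e₁.1 i₁ _))
      (Submodule.span_mono (SetLike.coe_subset_coe.2 le_sup_right) (map_mem_span e₂.1 i₂ _))
  · obtain ⟨a, ⟨a, ha, rfl⟩, b, ⟨b, hb, rfl⟩, rfl⟩ := Submodule.mem_sup.1 hx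
    rw [map_add]
    exact Submodule.add_mem _ (Submodule.mem_sup_left ⟨_, e₁.2.2.mem a ha, twist_comm hi₁ _ _ a⟩)
      (Submodule.mem_sup_right ⟨_, e₂.2.2.mem b hb, twist_comm hi₂ _ _ b⟩)
  · obtain ⟨a, ⟨a, ha, rfl⟩, b, ⟨b, hb, rfl⟩, rfl⟩ := Submodule.mem_sup.1 hy
    obtain ⟨a', ha', rfl⟩ := e₁.2.2.surj a ha
    obtain ⟨b', hb', rfl⟩ := e₂.2.2.surj b hb
    refine ⟨i₁ a' + i₂ b', Submodule.add_mem _ (Submodule.mem_sup_left ⟨a', ha', rfl⟩)
      (Submodule.mem_sup_right ⟨b', hb', rfl⟩), ?_⟩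
    rw [map_add, ← twist_comm hi₁, ← twist_comm hi₂]
    rfl
  · rw [← he₁]
    push_cast
    exact mul_div_mul_right _ _ (by exact_mod_cast hd₂.2.1.ne')

variable (F) in
/-- The isoclinic stable subspaces of slope `μ`. -/
def slopeSet (μ : ℚ) : Set (Submodule L N) :=
  {P : Submodule L N | ∃ hP : ∀ x ∈ P, F x ∈ P, Isoc.IsIsoclinic (F.restrict hP) μ}

omit hP in
include hτ hF in
lemma slopePart_mem (μ : ℚ) : Isoc.slopePart F μ ∈ slopeSet F μ := by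
  haveI := hF.finite
  have hbot : (⊥ : Submodule L N) ∈ slopeSet F μ :=
    ⟨fun x hx => by rw [(Submodule.mem_bot L).1 hx, map_zero]; exact zero_mem _, isIsoclinic_of_subsingleton hτ μ⟩
  obtain ⟨P, hPmem, hmax⟩ := set_has_maximal_iff_noetherian.2 (inferInstance : IsNoetherian L N) _ ⟨⊥, hbot⟩
  suffices Isoc.slopePart F μ = P by rwa [this]
  refine le_antisymm (sSup_le fun Q hQ => ?_) (le_sSup hPmem)
  obtain ⟨hP, h₁⟩ := hPmem
  obtain ⟨hQ, h₂⟩ := hQ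
  have hPQ : ∀ x ∈ P ⊔ Q, F x ∈ P ⊔ Q := fun x hx => by
    obtain ⟨a, ha, b, hb, rfl⟩ := Submodule.mem_sup.1 hx
    rw [map_add]
    exact Submodule.add_mem _ (Submodule.mem_sup_left (hP a ha)) (Submodule.mem_sup_right (hQ b hb))
  have := hmax (P ⊔ Q) ⟨hPQ, isIsoclinic_restrict_sup hτ hP hQ hPQ h₁ h₂⟩
  exact sup_eq_left.1 (eq_of_le_of_not_lt le_sup_left this).symm

omit [IsScalarTower W L N] in
lemma le_slopePart [IsScalarTower W L N] {μ : ℚ} (h : Isoc.IsIsoclinic (F.restrict hP) μ) :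
    P ≤ Isoc.slopePart F μ :=
  le_sSup ⟨hP, h⟩

end Stable

end Groth.Agent.IsocLib
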