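import Groth.Agent.IsocLib.Slope

/-!
# Isoclinic isocrystals
-/

noncomputable section

universe u v w

open Filter Topology

namespace Groth.Agent.IsocLib

variable {p : ℕ} [hp : Fact p.Prime] {k : Type u} [Field k] [CharP k p]

set_option hygiene false in
local notation "W" => WittVector p k
set_option hygiene false in
local notation "L" => FractionRing (WittVector p k)

variable {N : Type v} [AddCommGroup N] [Module W N] [Module L N] [IsScalarTower W L N]
  {τ : L →+* L}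

/-- `G` maps `M` onto itself. -/
structure Stab (G : N →ₛₗ[τ] N) (M : Submodule W N) : Prop where
  mem : ∀ x ∈ M, G x ∈ M
  surj : ∀ y ∈ M, ∃ x ∈ M, G x = y

lemma Stab.iterate {G : N →ₛₗ[τ] N} {M : Submodule W N} (h : Stab G M) (n : ℕ) :
    (∀ x ∈ M, (⇑G)^[n] x ∈ M) ∧ ∀ y ∈ M, ∃ x ∈ M, (⇑G)^[n] x = y := by
  induction n with
  | zero => exact ⟨fun x hx => hx, fun y hy => ⟨y, hy, rfl⟩⟩
  | succ n ih =>
    refine ⟨fun x hx => ?_, fun y hy => ?_⟩
    · rw [Function.iterate_succ_apply']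
      exact h.mem _ (ih.1 x hx)
    · obtain ⟨z, hz, rfl⟩ := h.surj y hy
      obtain ⟨x, hx, rfl⟩ := ih.2 z hz
      exact ⟨x, hx, Function.iterate_succ_apply' _ _ _⟩

variable {F : N →ₛₗ[τ] N} {M : Submodule W N} (hτ : Good τ)

include hτ

lemma latImg_eq_iff {s : ℕ} {r : ℤ} :
    Isoc.latImg F s M = Isoc.pPow r M ↔ Stab ((p : L) ^ (-r) • Isoc.iter F s) M := by
  constructor
  · intro h
    refine ⟨fun x hx => ?_, fun y hy => ?_⟩
    · rw [twist_iterate_apply, ← mem_pPow_iff, ← h, mem_latImg F hτ]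
      exact ⟨x, hx, rfl⟩
    · obtain ⟨x, hx, hxy⟩ := (mem_latImg F hτ).1 (h.symm ▸ pow_smul_mem_pPow hy)
      exact ⟨x, hx, by rw [twist_iterate_apply, hxy, smul_smul, ← zpow_add₀ p_ne_zero, neg_add_cancel, zpow_zero, one_smul]⟩
  · intro h
    refine le_antisymm ((le_iff F hτ).2 fun x hx => mem_pPow_iff.2 ?_) fun y hy => ?_
    · exact h.mem x hx
    · obtain ⟨x, hx, hxy⟩ := h.surj _ (mem_pPow_iff.1 hy)
      rw [twist_iterate_apply] at hxy
      exact (mem_latImg F hτ).2 ⟨x, hx, smul_right_injective N (zpow_ne_zero (-r) p_ne_zero) hxy⟩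

variable [PerfectRing k p] (hF : Isoc.IsIsoc F)

include hF

lemma stab_ord_zero {h : ℕ} (b : Module.Basis (Fin h) L N) (hM : M.IsLattice L) (hS : Stab F M) :
    Isoc.IsOrdP (Isoc.detCoeff b F) 0 := by
  obtain ⟨d, hd⟩ := exists_ord_detCoeff b hτ hF
  obtain ⟨b', hb'⟩ := exists_latBasis (n := h) (by rw [Module.finrank_eq_card_basis b, Fintype.card_fin]) hM
  have hd' := isOrdP_detCoeff_basis b hτ b' hd
  have h1 := le_of_dvd' hd' (dvd'_detCoeff (F := F) (r := 0) hb' fun m hm => (pPow_zero' M).symm ▸ hS.mem m hm)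
  have h2 := le_of_dvd' (isOrdP_detCoeff_invMap b' hτ hF hd') (dvd'_detCoeff (F := invMap hτ hF) (r := 0) hb' fun m hm => by
    obtain ⟨x, hx, rfl⟩ := hS.surj m hm
    rw [invMap_apply, pPow_zero']
    exact hx)
  rwa [show d = 0 by simp only [mul_zero] at h1 h2; omega] at hd

omit hF in
lemma not_le_one_of_stab [Nontrivial N] (hM : M.IsLattice L) (hS : Stab F M) (n : ℕ) : ¬ Le F M n 1 := by
  intro h
  have hall : ∀ j : ℕ, M ≤ Isoc.pPow (j : ℤ) M := by
    intro j
    induction j with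
    | zero => rw [Nat.cast_zero, pPow_zero']
    | succ j ih =>
      refine ih.trans ?_
      rw [Nat.cast_succ, ← pPow_pPow]
      refine pPow_mono _ fun y hy => ?_
      obtain ⟨x, hx, rfl⟩ := (hS.iterate n).2 y hy
      exact h x hx
  have hz : ∀ x ∈ M, x = 0 := fun x hx => eq_zero_of_forall_mem_pPow hM fun j => hall j hx
  have h0 : (⊤ : Submodule L N) = ⊥ := by
    rw [← hM.span_eq_top]
    exact Submodule.span_eq_bot.2 hz
  obtain ⟨x, hx⟩ := exists_ne (0 : N)
  exact hx ((Submodule.mem_bot L).1 (h0 ▸ Submodule.mem_top))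

lemma isFirstSlope_zero_of_stab [Nontrivial N] (hM : M.IsLattice L) (hS : Stab F M) :
    Isoc.IsFirstSlope F 0 := by
  refine isFirstSlope_of_tendsto hτ hF hM ?_
  have hord : ∀ n, ordF F M n = 0 := fun n => le_antisymm
    (not_lt.1 fun hlt => not_le_one_of_stab hτ hM hS n ((le_ordF_iff hτ hF hM).2 hlt))
    ((le_ordF_iff hτ hF hM).1 fun m hm => (pPow_zero' M).symm ▸ (hS.iterate n).1 m hm)
  simp only [hord, Int.cast_zero, zero_div]
  exact tendsto_const_nhds

lemma mul_eq_of_latImg_eq {h : ℕ} (b : Module.Basis (Fin h) L N) {d : ℤ}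
    (hd : Isoc.IsOrdP (Isoc.detCoeff b F) d) (hM : M.IsLattice L) {r : ℤ} {s : ℕ}
    (hFM : Isoc.latImg F s M = Isoc.pPow r M) : r * h = s * d := by
  have h1 := stab_ord_zero (hτ.pow s) (isIsoc_twist F hF (-r) s) b hM ((latImg_eq_iff hτ).1 hFM)
  have := isOrdP_unique h1 (isOrdP_detCoeff_twist b hτ hd (-r) s)
  linarith

lemma isFirstSlope_of_latImg_eq [Nontrivial N] (hM : M.IsLattice L) {r : ℤ} {s : ℕ} (hs : 0 < s)
    (hFM : Isoc.latImg F s M = Isoc.pPow r M) : Isoc.IsFirstSlope F ((r : ℝ) / s) := by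
  obtain ⟨lam, hlam⟩ := exists_isFirstSlope hτ hF
  have hF' := isIsoc_twist F hF (-r) s
  have h1 := isFirstSlope_unique (hτ.pow s) hF'
    (isFirstSlope_zero_of_stab (hτ.pow s) hF' hM ((latImg_eq_iff hτ).1 hFM))
    (isFirstSlope_twist hτ hF hlam (-r) s)
  push_cast at h1
  rwa [show (r : ℝ) / s = lam by rw [div_eq_iff (by exact_mod_cast hs.ne')]; linarith]

/-- A first slope attaining the bound `d / h` forces an isoclinic lattice. -/
lemma exists_latImg_eq_of_le {h : ℕ} (b : Module.Basis (Fin h) L N) {d : ℤ}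
    (hd : Isoc.IsOrdP (Isoc.detCoeff b F) d) {r : ℤ} {s : ℕ} (hrs : r * h = s * d)
    (hM : M.IsLattice L) (hle : Le F M s r) : Isoc.latImg F s M = Isoc.pPow r M := by
  obtain ⟨b', hb'⟩ := exists_latBasis (n := h) (by rw [Module.finrank_eq_card_basis b, Fintype.card_fin]) hM
  refine (latImg_eq_iff hτ).2 ⟨fun x hx => mem_pPow_iff.1 (hle x hx), fun y hy => ?_⟩
  refine exists_apply_eq (hτ.pow s) hb' (fun x hx => mem_pPow_iff.1 (hle x hx)) ?_ hy
  have := isOrdP_detCoeff_basis b (hτ.pow s) b' (isOrdP_detCoeff_twist b hτ hd (-r) s)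
  rwa [show -r * (h : ℤ) + s * d = 0 by linarith] at this

end Groth.Agent.IsocLib
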