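import Groth.Agent.IsocLib.Basic
import Mathlib.FieldTheory.Finite.Basic

/-!
# Frobenius powers on the fraction field of Witt vectors
-/

noncomputable section

universe u

namespace Groth.Agent.IsocLib

variable {p : ℕ} [hp : Fact p.Prime] {k : Type u} [Field k] [CharP k p]

set_option hygiene false in
local notation "W" => WittVector p k
set_option hygiene false in
local notation "L" => FractionRing (WittVector p k)

lemma natCast_W_ne_zero {n : ℕ} (hn : n ≠ 0) : (n : W) ≠ 0 := by
  induction n using Nat.strong_induction_on with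
  | _ n ih =>
    by_cases hdvd : p ∣ n
    · obtain ⟨q, rfl⟩ := hdvd
      have hq : q ≠ 0 := fun h => hn (by rw [h, mul_zero])
      rw [Nat.cast_mul]
      refine mul_ne_zero (WittVector.p_nonzero p k) (ih q ?_ hq)
      exact lt_mul_of_one_lt_left (Nat.pos_of_ne_zero hq) hp.out.one_lt
    · intro h0
      have := congrArg WittVector.constantCoeff h0
      rw [map_natCast, map_zero, CharP.cast_eq_zero_iff k p] at this
      exact hdvd this

lemma natCast_ne_zero {n : ℕ} (hn : n ≠ 0) : (n : L) ≠ 0 := by
  rw [← map_natCast (algebraMap W L) n]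
  exact (map_ne_zero_iff _ (IsFractionRing.injective W L)).2 (natCast_W_ne_zero hn)

variable [PerfectRing k p]

lemma frobeniusEquiv_pow_coeff (n : ℕ) (w : W) (i : ℕ) :
    ((WittVector.frobeniusEquiv p k ^ n : W ≃+* W) w).coeff i = w.coeff i ^ p ^ n := by
  induction n with
  | zero => simp
  | succ n ih =>
    rw [pow_succ', pow_succ, pow_mul, ← ih]
    exact WittVector.coeff_frobenius_charP p _ i

lemma frob_pow_algebraMap (a : ℤ) (n : ℕ) (w : W) :
    (Isoc.frob p k a ^ n) (algebraMap W L w) = algebraMap W L ((WittVector.frobeniusEquiv p k ^ (a * n)) w) := by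
  induction n with
  | zero => simp
  | succ n ih =>
    rw [pow_succ', RingHom.coe_mul, Function.comp_apply, ih, Isoc.frob_algebraMap, Nat.cast_succ, mul_add, mul_one,
      add_comm, zpow_add]
    rfl

lemma frobeniusEquiv_pow_card [Fintype k] {m : ℕ} (hk : Fintype.card k = p ^ m) :
    (WittVector.frobeniusEquiv p k ^ m : W ≃+* W) = 1 :=
  RingEquiv.ext fun w => WittVector.ext fun i => by
    rw [frobeniusEquiv_pow_coeff, ← hk, FiniteField.pow_card]
    rfl

lemma frob_pow_eq_id [Fintype k] {m : ℕ} (hk : Fintype.card k = p ^ m) (a : ℤ) :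
    Isoc.frob p k a ^ m = RingHom.id L := by
  refine IsLocalization.ringHom_ext (nonZeroDivisors W) (RingHom.ext fun w => ?_)
  rw [RingHom.comp_apply, frob_pow_algebraMap, mul_comm, zpow_mul, zpow_natCast, frobeniusEquiv_pow_card hk, one_zpow]
  rfl

end Groth.Agent.IsocLib
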