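import Groth.Agent.IsocLib.Fitting
import Groth.Agent.IsocLib.WittFrob
import Groth.Agent.SigmaLin.Basic
import Mathlib.FieldTheory.IsAlgClosed.Basic

/-!
# Fixed bases of unit-root isocrystals over an algebraically closed field
-/

noncomputable section

universe u v

open Polynomial

namespace Groth.Agent.IsocLib

variable {p : ℕ} [hp : Fact p.Prime] {k : Type u} [Field k] [CharP k p]

set_option hygiene false in
local notation "W" => WittVector p k
set_option hygiene false in
local notation "L" => FractionRing (WittVector p k)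

section Residue

variable [IsAlgClosed k] {n : ℕ} (hn : 0 < n)

include hn

lemma hypSol_iterateFrobenius : SigmaLin.HypSol (iterateFrobenius k p n) := by
  classical
  intro m b hb
  obtain ⟨q, hq1, hq⟩ : ∃ q, 1 < q ∧ q = p ^ n := ⟨p ^ n, Nat.one_lt_pow hn.ne' hp.out.one_lt, rfl⟩
  have hit : ∀ (i : ℕ) (x : k), (⇑(iterateFrobenius k p n))^[i] x = x ^ q ^ i := fun i x => by
    induction i with
    | zero => simp
    | succ i ih => rw [Function.iterate_succ_apply', ih, iterateFrobenius_def, ← hq, ← pow_mul, pow_succ]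
  let c : Fin (m + 1) → k := fun i => b (Fin.rev i) ^ q ^ (i : ℕ)
  obtain ⟨j, hj⟩ : ∃ j, c j ≠ 0 := by
    by_contra h
    push Not at h
    refine hb (funext fun i => ?_)
    have h1 := h (Fin.rev i)
    simp only [c, Fin.rev_rev] at h1
    exact eq_zero_of_pow_eq_zero h1
  let e : Fin (m + 1) → ℕ := fun i => q ^ ((i : ℕ) + 1) - 1
  have he : ∀ i, 0 < e i := fun i => by
    have := Nat.one_lt_pow (show (i : ℕ) + 1 ≠ 0 by omega) hq1
    simp only [e]; omega
  let f : k[X] := (∑ i, C (c i) * X ^ e i) - 1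
  have hf : f.coeff (e j) = c j := by
    have hinj : ∀ i, e i = e j → i = j := fun i hi => by
      have := Nat.one_le_pow ((i : ℕ) + 1) q (by omega)
      have := Nat.one_le_pow ((j : ℕ) + 1) q (by omega)
      have h2 : q ^ ((i : ℕ) + 1) = q ^ ((j : ℕ) + 1) := by simp only [e] at hi; omega
      exact Fin.ext (Nat.succ_injective (Nat.pow_right_injective hq1 h2))
    simp only [f, coeff_sub, finsetSum_coeff, coeff_C_mul, coeff_X_pow, coeff_one]
    rw [if_neg (he j).ne', sub_zero, Finset.sum_eq_single j]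
    · simp
    · intro i _ hi; rw [if_neg (fun h => hi (hinj i h.symm)), mul_zero]
    · simp
  have hdeg : f.degree ≠ 0 := fun h => hj (by
    rw [← hf]
    exact coeff_eq_zero_of_degree_lt (by rw [h]; exact_mod_cast he j))
  obtain ⟨x, hx⟩ := IsAlgClosed.exists_root f hdeg
  simp only [IsRoot.def, f, eval_sub, eval_finsetSum, eval_mul, eval_C, eval_pow, eval_X, eval_one, sub_eq_zero] at hx
  refine ⟨x, fun h => ?_, ?_⟩
  · subst h
    simp [zero_pow, (he _).ne'] at hx
  conv_lhs => rw [← mul_one x, ← hx, Finset.mul_sum]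
  refine Finset.sum_congr rfl fun i _ => ?_
  rw [hit, hit]
  have : x ^ q ^ ((i : ℕ) + 1) = x ^ e i * x := by
    rw [← pow_succ]; congr 1
    have := Nat.one_le_pow ((i : ℕ) + 1) q (by omega)
    simp only [e]; omega
  rw [this]; ring

lemma hypAS_iterateFrobenius : SigmaLin.HypAS (iterateFrobenius k p n) := by
  intro c
  have h1 : 1 < p ^ n := Nat.one_lt_pow hn.ne' hp.out.one_lt
  have hdeg : (X ^ p ^ n - X + C c : k[X]).degree ≠ 0 := by
    intro h
    have h' := coeff_eq_zero_of_degree_lt (p := (X ^ p ^ n - X + C c : k[X])) (n := p ^ n)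
      (by rw [h]; exact_mod_cast (Nat.zero_lt_one.trans h1))
    simp [coeff_X, coeff_C, hp.out.ne_zero, h1.ne] at h'
  obtain ⟨z, hz⟩ := IsAlgClosed.exists_root _ hdeg
  exact ⟨z, by simpa [iterateFrobenius_def] using hz⟩

end Residue

variable [PerfectRing k p] {N : Type v} [AddCommGroup N] [Module W N] [Module L N] [IsScalarTower W L N]
  {σ : L →+* L} {G : N →ₛₗ[σ] N} {M : Submodule W N}

/-- `σ` induces `x ↦ x ^ p ^ n` on the residue field. -/
def IsFrobLift (σ : L →+* L) (n : ℕ) : Prop :=
  ∀ w : W, ∃ w' : W, σ (algebraMap W L w) = algebraMap W L w' ∧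
    WittVector.constantCoeff w' = WittVector.constantCoeff w ^ p ^ n

variable [IsAlgClosed k] (hσ : Good σ) {n : ℕ} (hn : 0 < n) (hres : IsFrobLift σ n)

include hσ hn hres

theorem exists_fixed_basis {h : ℕ} (hh : Module.finrank L N = h) [Module.Finite L N] (hM : M.IsLattice L)
    (hS : Stab G M) : ∃ e : Module.Basis (Fin h) L N, ∀ i, G (e i) = e i := by
  classical
  obtain ⟨b, hb⟩ := exists_latBasis hh hM
  let σb := iterateFrobenius k p n
  let A : Matrix (Fin h) (Fin h) W := Matrix.of fun i j => coordW hb ⟨G (b j), hS.mem _ (hb.self_mem j)⟩ i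
  let T : (Fin h → k) →ₛₗ[σb] (Fin h → k) :=
    { toFun := fun v => (A.map WittVector.constantCoeff).mulVec fun i => σb (v i)
      map_add' := fun x y => by rw [← Matrix.mulVec_add]; congr 1; funext i; exact map_add σb _ _
      map_smul' := fun c x => by
        rw [← Matrix.mulVec_smul]; congr 1; funext i; exact map_mul σb _ _ }
  have hTred : ∀ (x : M), red hb ⟨G x, hS.mem _ x.2⟩ = T (red hb x) := by
    intro x
    funext i
    choose c hc hcc using fun j => hres (coordW hb x j)
    have h1 : coordW hb ⟨G x, hS.mem _ x.2⟩ i = ∑ j, A i j * c j := by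
      apply IsFractionRing.injective W L
      rw [← coordW_spec, map_sum, congrFun (repr_apply b G (x : N)) i]
      simp only [Matrix.mulVec, dotProduct]
      refine Finset.sum_congr rfl fun j _ => ?_
      rw [map_mul, coordW_spec hb x j, hc]
      congr 1
      exact coordW_spec hb ⟨G (b j), hS.mem _ (hb.self_mem j)⟩ i
    change WittVector.constantCoeff (coordW hb ⟨G x, hS.mem _ x.2⟩ i) = _
    rw [h1, map_sum]
    refine Finset.sum_congr rfl fun j _ => ?_
    rw [map_mul, hcc]
    rfl
  have hsurj : ∀ v : Fin h → k, ∃ x : M, red hb x = v := fun v => by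
    choose w hw using fun i => (constantCoeff_surjective (p := p) (k := k)).is_surjective (v i)
    refine ⟨⟨∑ i, algebraMap W L (w i) • b i, (hb _).2 fun i => by rw [b.repr_sum_self]; exact dvd'_algebraMap _⟩,
      funext fun i => ?_⟩
    change WittVector.constantCoeff (coordW hb _ i) = v i
    rw [← hw i]
    congr 1
    apply IsFractionRing.injective W L
    rw [← coordW_spec, b.repr_sum_self]
  have hspan : Submodule.span k (Set.range T) = ⊤ := eq_top_iff.2 fun v _ => by
    obtain ⟨y, rfl⟩ := hsurj v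
    obtain ⟨x, hx, hxy⟩ := hS.surj y y.2
    exact Submodule.subset_span ⟨red hb ⟨x, hx⟩, (hTred ⟨x, hx⟩).symm.trans (congrArg (red hb) (Subtype.ext hxy))⟩
  obtain ⟨⟨bb, hbb⟩, hsub⟩ := SigmaLin.exists_fixed_basis T hspan (hypSol_iterateFrobenius hn) (hypAS_iterateFrobenius hn)
  have hstep : ∀ y : M, ∃ z : M, (G z - z - y : N) ∈ Isoc.pPow 1 M := fun y => by
    obtain ⟨v, hv⟩ := hsub (-red hb y)
    obtain ⟨z, rfl⟩ := hsurj v
    refine ⟨z, ?_⟩
    have h0 : red hb (⟨G z, hS.mem _ z.2⟩ - z - y) = 0 := by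
      rw [map_sub, map_sub, hTred]
      have h2 : red hb z - T (red hb z) = -red hb y := hv
      linear_combination (norm := module) -h2
    exact (red_eq_zero_iff hb _).1 h0
  choose Z hZ using hstep
  have hsolve : ∀ y : M, ∃ z ∈ M, G z - z = (y : N) := by
    intro y
    let ys : ℕ → M := fun j => Nat.rec (motive := fun _ => M) y (fun _ yj => ⟨(p : L) ^ (-1 : ℤ) • ((yj : N) - (G (Z yj) - Z yj)), by
      rw [← mem_pPow_iff]
      have := neg_mem (hZ yj)
      rwa [neg_sub] at this⟩) j
    let us : ℕ → N := fun j => ∑ i ∈ Finset.range j, (p : L) ^ (i : ℤ) • (Z (ys i) : N)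
    have hus : ∀ j, us j ∈ M := fun j => Submodule.sum_mem _ fun i _ => smul_pow_mem (Z (ys i)).2 (Int.natCast_nonneg i)
    have hinv : ∀ j : ℕ, G (us j) - us j - y = -((p : L) ^ (j : ℤ) • (Subtype.val (ys j))) := by
      intro j
      induction j with
      | zero => simp [us, ys]
      | succ j ih =>
        have e1 : us (j + 1) = us j + (p : L) ^ (j : ℤ) • (Z (ys j) : N) := Finset.sum_range_succ _ _
        have e2 : (p : L) ^ ((j + 1 : ℕ) : ℤ) • (Subtype.val (ys (j + 1))) =
            (p : L) ^ (j : ℤ) • ((Subtype.val (ys j)) - (G (Z (ys j)) - Z (ys j))) := by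
          change _ • ((p : L) ^ (-1 : ℤ) • ((Subtype.val (ys j)) - (G (Z (ys j)) - Z (ys j)))) = _
          rw [smul_smul, ← zpow_add₀ p_ne_zero]
          congr 2
          omega
        rw [e1, e2, map_add, map_smulₛₗ, hσ.map_p, smul_sub, smul_sub]
        linear_combination (norm := abel) ih
    obtain ⟨l, hl, hlim⟩ := exists_limit hM us hus fun j => by
      rw [show us (j + 1) - us j = (p : L) ^ (j : ℤ) • (Z (ys j) : N) by simp [us, Finset.sum_range_succ]]
      exact pow_smul_mem_pPow (Z (ys j)).2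
    refine ⟨l, hl, sub_eq_zero.1 (eq_zero_of_forall_mem_pPow hM fun j => ?_)⟩
    have h1 : G (us j - l) ∈ Isoc.pPow (j : ℤ) M := by
      have := iterate_mem_pPow hσ (fun x hx => hS.mem x hx) (hlim j) 1
      simpa using this
    have h2 : -((p : L) ^ (j : ℤ) • (Subtype.val (ys j))) ∈ Isoc.pPow (j : ℤ) M := neg_mem (pow_smul_mem_pPow (ys j).2)
    rw [show G l - l - (y : N) = -((p : L) ^ (j : ℤ) • (Subtype.val (ys j))) - G (us j - l) + (us j - l) by
      rw [← hinv, map_sub]; abel]
    exact Submodule.add_mem _ (Submodule.sub_mem _ h2 h1) (hlim j)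
  have hlift : ∀ i, ∃ e : M, G e = e ∧ red hb e = bb i := fun i => by
    obtain ⟨w, hw⟩ := hsurj (bb i)
    have h0 : (G w - w : N) ∈ Isoc.pPow 1 M := by
      refine (red_eq_zero_iff hb (⟨G w, hS.mem _ w.2⟩ - w)).1 ?_
      rw [map_sub, hTred, hw, hbb, sub_self]
    obtain ⟨z, hz, hzu'⟩ := hsolve ⟨_, mem_pPow_iff.1 h0⟩
    have hzu : G z - z = (p : L) ^ (-1 : ℤ) • (G w - w) := hzu'
    have hz1 : (p : L) ^ (1 : ℤ) • z ∈ Isoc.pPow 1 M := pow_smul_mem_pPow hz
    refine ⟨w - ⟨(p : L) ^ (1 : ℤ) • z, smul_pow_mem hz zero_le_one⟩, ?_, ?_⟩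
    · change G ((w : N) - (p : L) ^ (1 : ℤ) • z) = (w : N) - (p : L) ^ (1 : ℤ) • z
      rw [map_sub, map_smulₛₗ, hσ.map_p, show G z = z + (p : L) ^ (-1 : ℤ) • (G w - w) by rw [← hzu]; abel,
        smul_add, smul_smul, ← zpow_add₀ p_ne_zero, add_neg_cancel, zpow_zero, one_smul]
      abel
    · rw [map_sub, (red_eq_zero_iff hb ⟨_, smul_pow_mem hz zero_le_one⟩).2 hz1, sub_zero, hw]
  choose e heG her using hlift
  have hbbcard : Module.finrank k (Fin h → k) = h := by simp
  let e' : Fin h → N := fun i => (e (finCongr hbbcard.symm i) : N)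
  have hli : LinearIndependent L e' := by
    let C : Matrix (Fin h) (Fin h) W := Matrix.of fun i j => coordW hb (e (finCongr hbbcard.symm j)) i
    have hC : C.det ≠ 0 := by
      intro h0
      have h1 : (C.map WittVector.constantCoeff).det = 0 := by
        rw [← RingHom.mapMatrix_apply, ← RingHom.map_det, h0, map_zero]
      have h2 : C.map WittVector.constantCoeff =
          (Pi.basisFun k (Fin h)).toMatrix (bb.reindex (finCongr hbbcard)) := by
        ext i j
        rw [Module.Basis.toMatrix_apply, Pi.basisFun_repr, Module.Basis.reindex_apply]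
        exact congrFun (her _) i
      rw [h2] at h1
      have h3 := congrArg Matrix.det ((Pi.basisFun k (Fin h)).toMatrix_mul_toMatrix_flip (bb.reindex (finCongr hbbcard)))
      rw [Matrix.det_mul, h1, zero_mul, Matrix.det_one] at h3
      exact zero_ne_one h3
    have h4 : b.toMatrix e' = C.map (algebraMap W L) := by
      ext i j
      exact coordW_spec hb _ i
    refine (Module.Basis.is_basis_iff_det b).2 ?_ |>.1
    rw [Module.Basis.det_apply, h4, ← RingHom.mapMatrix_apply, ← RingHom.map_det, isUnit_iff_ne_zero]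
    exact (map_ne_zero_iff _ (IsFractionRing.injective W L)).2 hC
  exact ⟨Module.Basis.mk hli (hli.span_eq_top_of_card_eq_finrank' (by rw [Fintype.card_fin, hh])).ge,
    fun i => by rw [Module.Basis.mk_apply]; exact heG _⟩

end Groth.Agent.IsocLib
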