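import Groth.Agent.IsocLib.Det
import Mathlib.Analysis.Subadditive
import Mathlib.Data.Int.ConditionallyCompleteOrder

/-!
# Orders of iterates and the first slope
-/

noncomputable section

universe u v

open Filter Topology

namespace Groth.Agent.IsocLib

variable {p : ℕ} [hp : Fact p.Prime] {k : Type u} [Field k] [CharP k p] [PerfectRing k p]

set_option hygiene false in
local notation "W" => WittVector p k
set_option hygiene false in
local notation "L" => FractionRing (WittVector p k)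

variable {N : Type v} [AddCommGroup N] [Module W N] [Module L N] [IsScalarTower W L N]
  {τ : L →+* L} {F : N →ₛₗ[τ] N} {M : Submodule W N}
  (hτ : Good τ) (hF : Isoc.IsIsoc F) (hM : M.IsLattice L)

omit [PerfectRing k p] in
lemma le_sup {S : Submodule W N} {x : N} (hx : x ∈ S) {T : Submodule W N} (h : S ≤ T) : x ∈ T := h hx

include hτ in
omit [PerfectRing k p] in
lemma le_one_iff {r : ℤ} {G : N →ₛₗ[τ] N} :
    Le G M 1 r ↔ ∀ m ∈ M, G m ∈ Isoc.pPow r M := Iff.rfl

include hM in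
lemma exists_le (F : N →ₛₗ[τ] N) (hτ : Good τ) [Module.Finite L N] (n : ℕ) : ∃ r, Le F M n r := by
  obtain ⟨b, hb⟩ := exists_latBasis rfl hM
  obtain ⟨c, hc⟩ := exists_le_pPow hM (Submodule.fg_span (Set.finite_range fun i => (⇑F)^[n] (b i)) :
    (Submodule.span W (Set.range fun i => (⇑F)^[n] (b i))).FG)
  refine ⟨c, fun m hm => ?_⟩
  choose w hw using (hb m).1 hm
  rw [← b.sum_repr m]
  change Isoc.iter F n _ ∈ _
  rw [map_sum]
  refine Submodule.sum_mem _ fun i _ => ?_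
  rw [map_smulₛₗ, hw i, zpow_zero, one_mul]
  obtain ⟨w', hw'⟩ := (hτ.pow n).map_int (w i)
  rw [hw', algebraMap_smul]
  exact Submodule.smul_mem _ _ (hc (Submodule.subset_span ⟨i, rfl⟩))

include hτ hF hM in
/-- An upper bound for orders from the determinant. -/
lemma le_mul_le {h : ℕ} (b : Module.Basis (Fin h) L N) {d : ℤ} (hd : Isoc.IsOrdP (Isoc.detCoeff b F) d)
    {n : ℕ} {r : ℤ} (hr : Le F M n r) : r * h ≤ n * d := by
  obtain ⟨b', hb'⟩ := exists_latBasis (n := h) (by rw [Module.finrank_eq_card_basis b, Fintype.card_fin]) hM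
  have h1 := isOrdP_detCoeff_basis b (hτ.pow n) b' (isOrdP_detCoeff_iter b hτ hd n)
  have h2 := le_of_dvd' h1 (dvd'_detCoeff (F := Isoc.iter F n) hb' hr)
  rwa [mul_comm] at h2

variable (F M) in
/-- The order of the `n`-th iterate. -/
def ordF (n : ℕ) : ℤ := sSup {r | Le F M n r}

include hτ hF hM

lemma bddAbove_le [Nontrivial N] (n : ℕ) : BddAbove {r | Le F M n r} := by
  haveI := hF.finite
  let b := Module.finBasis L N
  obtain ⟨d, hd⟩ := exists_ord_detCoeff b hτ hF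
  refine ⟨|(n : ℤ) * d|, fun r hr => ?_⟩
  have h1 := le_mul_le hτ hF hM b hd hr
  have hpos : (1 : ℤ) ≤ (Module.finrank L N : ℤ) := by exact_mod_cast Module.finrank_pos (R := L) (M := N)
  rcases le_or_gt r 0 with h0 | h0
  · exact h0.trans (abs_nonneg _)
  · have := le_abs_self ((n : ℤ) * d)
    nlinarith

lemma le_ordF_iff [Nontrivial N] {n : ℕ} {r : ℤ} : Le F M n r ↔ r ≤ ordF F M n := by
  haveI := hF.finite
  refine ⟨fun h => le_csSup (bddAbove_le hτ hF hM n) h, fun h => Le.mono F ?_ h⟩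
  exact Int.csSup_mem (exists_le hM F hτ n) (bddAbove_le hτ hF hM n)

lemma le_ordF_self [Nontrivial N] (n : ℕ) : Le F M n (ordF F M n) := (le_ordF_iff hτ hF hM).2 le_rfl

lemma isOrd_ordF_iff [Nontrivial N] {n : ℕ} {r : ℤ} : Isoc.IsOrd M F n r ↔ ordF F M n = r := by
  rw [isOrd_iff F hτ, le_ordF_iff hτ hF hM, le_ordF_iff hτ hF hM]
  omega

lemma ordF_zero [Nontrivial N] : ordF F M 0 = 0 := by
  haveI := hF.finite
  refine le_antisymm ?_ ((le_ordF_iff hτ hF hM).1 fun m hm => by simpa [pPow_zero'] using hm)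
  let b := Module.finBasis L N
  obtain ⟨d, hd⟩ := exists_ord_detCoeff b hτ hF
  have h1 := le_mul_le hτ hF hM b hd (le_ordF_self hτ hF hM 0)
  have hpos : (0 : ℤ) < (Module.finrank L N : ℤ) := by exact_mod_cast Module.finrank_pos (R := L) (M := N)
  rw [Nat.cast_zero, zero_mul] at h1
  exact nonpos_of_mul_nonpos_left h1 hpos

lemma ordF_add_le [Nontrivial N] (a b : ℕ) : ordF F M a + ordF F M b ≤ ordF F M (a + b) :=
  (le_ordF_iff hτ hF hM).1 ((le_ordF_self hτ hF hM a).comp F hτ (le_ordF_self hτ hF hM b))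

lemma mul_ordF_le [Nontrivial N] (a j : ℕ) : (j : ℤ) * ordF F M a ≤ ordF F M (a * j) := by
  rw [mul_comm]
  exact (le_ordF_iff hτ hF hM).1 ((le_ordF_self hτ hF hM a).iterate F hτ j)

lemma exists_tendsto_ordF [Nontrivial N] :
    ∃ lam : ℝ, Tendsto (fun n : ℕ => (ordF F M n : ℝ) / n) atTop (𝓝 lam) ∧
      ∀ n : ℕ, (ordF F M n : ℝ) ≤ n * lam := by
  haveI := hF.finite
  have hu : Subadditive fun n => -(ordF F M n : ℝ) := fun a b => by
    have := ordF_add_le hτ hF hM a b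
    have : (ordF F M a : ℝ) + ordF F M b ≤ ordF F M (a + b) := by exact_mod_cast this
    linarith
  have hbdd : BddBelow (Set.range fun n : ℕ => -(ordF F M n : ℝ) / n) := by
    let b := Module.finBasis L N
    obtain ⟨d, hd⟩ := exists_ord_detCoeff b hτ hF
    refine ⟨-|(d : ℝ)|, ?_⟩
    rintro _ ⟨n, rfl⟩
    rcases Nat.eq_zero_or_pos n with rfl | hn
    · simp
    have h1 : ((ordF F M n : ℝ)) * Module.finrank L N ≤ n * d := by
      exact_mod_cast le_mul_le hτ hF hM b hd (le_ordF_self hτ hF hM n)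
    have hpos : (1 : ℝ) ≤ (Module.finrank L N : ℝ) := by exact_mod_cast Module.finrank_pos (R := L) (M := N)
    rw [le_div_iff₀ (by exact_mod_cast hn)]
    have hd1 := le_abs_self (d : ℝ)
    have hd2 := abs_nonneg (d : ℝ)
    have hn' : (0 : ℝ) ≤ n := by positivity
    rcases le_or_gt (ordF F M n : ℝ) 0 with h0 | h0
    · nlinarith
    · nlinarith
  refine ⟨-hu.lim, ?_, fun n => ?_⟩
  · have := (hu.tendsto_lim hbdd).neg
    simpa [neg_div] using this
  · rcases Nat.eq_zero_or_pos n with rfl | hn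
    · rw [ordF_zero hτ hF hM]; simp
    have := hu.lim_le_div hbdd hn.ne'
    rw [le_div_iff₀ (by exact_mod_cast hn)] at this
    linarith

lemma exists_const [Nontrivial N] {M' : Submodule W N} (hM' : M'.IsLattice L) :
    ∃ c : ℤ, ∀ n, ordF F M n + c ≤ ordF F M' n := by
  obtain ⟨c₁, hc₁⟩ := exists_le_pPow hM hM'.fg
  obtain ⟨c₂, hc₂⟩ := exists_le_pPow hM' hM.fg
  refine ⟨c₁ + c₂, fun n => (le_ordF_iff hτ hF hM').1 fun m hm => ?_⟩
  have h1 := le_ordF_self hτ hF hM n _ (mem_pPow_iff.1 (hc₁ hm))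
  rw [iterate_smul_pow F hτ, pow_smul_mem_pPow_iff, sub_neg_eq_add] at h1
  have h2 := pPow_mono (ordF F M n + c₁) hc₂ h1
  rwa [pPow_pPow, add_assoc] at h2

lemma tendsto_ordF_unique [Nontrivial N] {M' : Submodule W N} (hM' : M'.IsLattice L) {l l' : ℝ}
    (h : Tendsto (fun n : ℕ => (ordF F M n : ℝ) / n) atTop (𝓝 l))
    (h' : Tendsto (fun n : ℕ => (ordF F M' n : ℝ) / n) atTop (𝓝 l')) : l ≤ l' := by
  obtain ⟨c, hc⟩ := exists_const hτ hF hM hM'
  have h0 : Tendsto (fun n : ℕ => (ordF F M n : ℝ) / n + (c : ℝ) / n) atTop (𝓝 (l + 0)) :=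
    h.add ((tendsto_const_nhds (x := (c : ℝ))).div_atTop tendsto_natCast_atTop_atTop)
  rw [add_zero] at h0
  refine le_of_tendsto_of_tendsto' h0 h' fun n => ?_
  rw [← add_div]
  exact div_le_div_of_nonneg_right (by exact_mod_cast hc n) (Nat.cast_nonneg n)

omit hM

lemma tendsto_of_isFirstSlope [Nontrivial N] {lam : ℝ} (hlam : Isoc.IsFirstSlope F lam)
    (hM : M.IsLattice L) : Tendsto (fun n : ℕ => (ordF F M n : ℝ) / n) atTop (𝓝 lam) := by
  obtain ⟨M₀, hM₀, o, ho, hlim⟩ := hlam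
  have h0 : Tendsto (fun n : ℕ => (ordF F M₀ n : ℝ) / n) atTop (𝓝 lam) := by
    refine hlim.congr' ?_
    filter_upwards [eventually_ge_atTop 1] with n hn
    rw [(isOrd_ordF_iff hτ hF hM₀).1 (ho n hn)]
  obtain ⟨l, hl, -⟩ := exists_tendsto_ordF hτ hF hM
  rwa [le_antisymm (tendsto_ordF_unique hτ hF hM₀ hM h0 hl) (tendsto_ordF_unique hτ hF hM hM₀ hl h0)]

lemma ordF_le_of_isFirstSlope [Nontrivial N] {lam : ℝ} (hlam : Isoc.IsFirstSlope F lam)
    (hM : M.IsLattice L) (n : ℕ) : (ordF F M n : ℝ) ≤ n * lam := by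
  obtain ⟨l, hl, hle⟩ := exists_tendsto_ordF hτ hF hM
  rw [tendsto_nhds_unique (tendsto_of_isFirstSlope hτ hF hlam hM) hl]
  exact hle n

lemma le_mul_of_le [Nontrivial N] {lam : ℝ} (hlam : Isoc.IsFirstSlope F lam)
    (hM : M.IsLattice L) {n : ℕ} {r : ℤ} (h : Le F M n r) : (r : ℝ) ≤ n * lam :=
  le_trans (by exact_mod_cast (le_ordF_iff hτ hF hM).1 h) (ordF_le_of_isFirstSlope hτ hF hlam hM n)

lemma isFirstSlope_of_tendsto [Nontrivial N] {lam : ℝ} (hM : M.IsLattice L)
    (h : Tendsto (fun n : ℕ => (ordF F M n : ℝ) / n) atTop (𝓝 lam)) : Isoc.IsFirstSlope F lam :=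
  ⟨M, hM, ordF F M, fun _ _ => (isOrd_ordF_iff hτ hF hM).2 rfl, h⟩

lemma isFirstSlope_unique [Nontrivial N] {l l' : ℝ} (h : Isoc.IsFirstSlope F l)
    (h' : Isoc.IsFirstSlope F l') : l = l' := by
  obtain ⟨M₀, hM₀, -⟩ := id h
  exact tendsto_nhds_unique (tendsto_of_isFirstSlope hτ hF h hM₀) (tendsto_of_isFirstSlope hτ hF h' hM₀)

omit hτ hF

omit [PerfectRing k p] in
lemma nontrivial_of_isFirstSlope {lam : ℝ} (h : Isoc.IsFirstSlope F lam) : Nontrivial N := by
  obtain ⟨M₀, -, o, ho, -⟩ := h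
  by_contra hN
  haveI := not_nontrivial_iff_subsingleton.1 hN
  exact (ho 1 le_rfl).2 fun x _ => (Subsingleton.elim 0 x) ▸ zero_mem _

lemma isLattice_span_latBasis {h : ℕ} (b : Module.Basis (Fin h) L N) :
    (Submodule.span W (Set.range b)).IsLattice L := by
  refine ⟨Submodule.fg_span (Set.finite_range _), ?_⟩
  rw [eq_top_iff, ← b.span_eq]
  exact Submodule.span_mono Submodule.subset_span

include hτ hF

lemma exists_isFirstSlope [Nontrivial N] : ∃ lam : ℝ, Isoc.IsFirstSlope F lam := by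
  haveI := hF.finite
  have hM := isLattice_span_latBasis (Module.finBasis L N)
  obtain ⟨l, hl, -⟩ := exists_tendsto_ordF hτ hF hM
  exact ⟨l, isFirstSlope_of_tendsto hτ hF hM hl⟩

lemma isFirstSlope_twist {lam : ℝ} (hlam : Isoc.IsFirstSlope F lam) (m : ℤ) (n : ℕ) :
    Isoc.IsFirstSlope ((p : L) ^ m • Isoc.iter F n) (n * lam + m) := by
  haveI := nontrivial_of_isFirstSlope hlam
  obtain ⟨M₀, hM₀, -⟩ := id hlam
  have hF' := isIsoc_twist F hF m n
  refine isFirstSlope_of_tendsto (hτ.pow n) hF' hM₀ ?_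
  have key : ∀ j : ℕ, ordF ((p : L) ^ m • Isoc.iter F n) M₀ j = ordF F M₀ (n * j) + m * j := fun j => by
    refine eq_of_forall_le_iff fun r => ?_
    rw [← le_ordF_iff (hτ.pow n) hF' hM₀, twist_le_iff F hτ, le_ordF_iff hτ hF hM₀]
    omega
  simp only [key, Int.cast_add, Int.cast_mul, Int.cast_natCast, add_div]
  refine Tendsto.add ?_ ?_
  · rcases Nat.eq_zero_or_pos n with rfl | hn
    · simp [ordF_zero hτ hF hM₀]
    have h1 := (tendsto_of_isFirstSlope hτ hF hlam hM₀).comp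
      (tendsto_atTop_atTop.2 fun a => ⟨a, fun j hj => le_trans hj (Nat.le_mul_of_pos_left j hn)⟩ :
        Tendsto (fun j => n * j) atTop atTop)
    refine (h1.const_mul (n : ℝ)).congr fun j => ?_
    simp only [Function.comp_apply, Nat.cast_mul]
    rcases Nat.eq_zero_or_pos j with rfl | hj
    · simp
    field_simp
  · refine tendsto_const_nhds.congr' ?_
    filter_upwards [eventually_ge_atTop 1] with j hj
    rw [mul_div_cancel_right₀]
    exact_mod_cast (by omega : j ≠ 0)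

end Groth.Agent.IsocLib
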