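import Groth.Agent.IsocLib.Basic
import Mathlib.LinearAlgebra.FiniteDimensional.Lemmas

/-!
# Reduction of a lattice modulo `p`
-/

noncomputable section

universe u v

namespace Groth.Agent.IsocLib

variable {p : ℕ} [hp : Fact p.Prime] {k : Type u} [Field k] [CharP k p] [PerfectRing k p]

set_option hygiene false in
local notation "W" => WittVector p k
set_option hygiene false in
local notation "L" => FractionRing (WittVector p k)

instance constantCoeff_surjective : RingHomSurjective (WittVector.constantCoeff (p := p) (R := k)) :=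
  ⟨fun a => ⟨WittVector.teichmuller p a, WittVector.teichmuller_coeff_zero p a⟩⟩

omit [PerfectRing k p] in
lemma dvd'_one_iff {w : W} : Dvd' 1 (algebraMap W L w) ↔ (p : W) ∣ w := by
  constructor
  · rintro ⟨v, hv⟩
    rw [zpow_one, ← map_natCast (algebraMap W L) p, ← map_mul] at hv
    exact ⟨v, IsFractionRing.injective W L hv⟩
  · rintro ⟨v, rfl⟩
    exact ⟨v, by rw [map_mul, map_natCast, zpow_one]⟩

lemma p_dvd_iff {w : W} : (p : W) ∣ w ↔ WittVector.constantCoeff w = 0 := by
  rw [← Ideal.mem_span_singleton, ← WittVector.ker_constantCoeff, RingHom.mem_ker]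

variable {N : Type v} [AddCommGroup N] [Module W N] [Module L N] [IsScalarTower W L N]
  {M : Submodule W N}

section Red

variable {h : ℕ} {b : Module.Basis (Fin h) L N} (hb : IsLatBasis b M)

include hb in
omit [PerfectRing k p] in
lemma exists_coordW (x : M) (i : Fin h) : ∃ w : W, b.repr (x : N) i = algebraMap W L w := by
  obtain ⟨w, hw⟩ := (hb x).1 x.2 i
  exact ⟨w, by rw [hw, zpow_zero, one_mul]⟩

/-- The coordinates of an element of a lattice. -/
def coordW (x : M) (i : Fin h) : W := Classical.choose (exists_coordW hb x i)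

lemma coordW_spec (x : M) (i : Fin h) : b.repr (x : N) i = algebraMap W L (coordW hb x i) :=
  Classical.choose_spec (exists_coordW hb x i)

/-- Reduction of a lattice modulo `p` in coordinates. -/
def red : M →ₛₗ[(WittVector.constantCoeff : W →+* k)] (Fin h → k) where
  toFun x i := WittVector.constantCoeff (coordW hb x i)
  map_add' x y := funext fun i => by
    rw [Pi.add_apply, ← map_add]
    congr 1
    apply IsFractionRing.injective W L
    rw [map_add, ← coordW_spec, ← coordW_spec, ← coordW_spec, Submodule.coe_add, map_add, Finsupp.add_apply]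
  map_smul' c x := funext fun i => by
    rw [Pi.smul_apply, smul_eq_mul, ← map_mul]
    congr 1
    apply IsFractionRing.injective W L
    rw [map_mul, ← coordW_spec, ← coordW_spec, SetLike.val_smul, ← algebraMap_smul L c, map_smul,
      Finsupp.smul_apply, smul_eq_mul]

lemma red_eq_zero_iff (x : M) : red hb x = 0 ↔ (x : N) ∈ Isoc.pPow 1 M := by
  rw [hb.mem_pPow, funext_iff]
  refine forall_congr' fun i => ?_
  rw [coordW_spec hb, dvd'_one_iff, p_dvd_iff]
  rfl

/-- The image of a submodule modulo `p`. -/
def redSub (S : Submodule W N) : Submodule k (Fin h → k) := (S.comap M.subtype).map (red hb)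

lemma redSub_mono {S T : Submodule W N} (hST : S ≤ T) : redSub hb S ≤ redSub hb T :=
  Submodule.map_mono (Submodule.comap_mono hST)

lemma le_sup_of_redSub_le {S T : Submodule W N} (hS : S ≤ M) (hST : redSub hb S ≤ redSub hb T) :
    S ≤ T ⊔ Isoc.pPow 1 M := by
  intro x hx
  obtain ⟨y, hy, hyx⟩ := hST (Submodule.mem_map_of_mem (f := red hb) (show (⟨x, hS hx⟩ : M) ∈ S.comap M.subtype from hx))
  refine Submodule.mem_sup.2 ⟨y, hy, x - y, ?_, by abel⟩
  have h0 : red hb (⟨x, hS hx⟩ - y) = 0 := by rw [map_sub, hyx, sub_self]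
  exact (red_eq_zero_iff hb _).1 h0

end Red

lemma exists_step {h : ℕ} {V : Type*} [AddCommGroup V] [Module k V] [FiniteDimensional k V]
    (hV : Module.finrank k V ≤ h) (f : ℕ → Submodule k V) (hf : Monotone f) :
    ∃ j ≤ h, f (j + 1) ≤ f j := by
  by_contra hne
  push Not at hne
  have key : ∀ j ≤ h + 1, j ≤ Module.finrank k (f j) := by
    intro j
    induction j with
    | zero => intro _; exact Nat.zero_le _
    | succ j ih =>
      intro hj
      have hlt : f j < f (j + 1) := lt_of_le_not_ge (hf (Nat.le_succ j)) (hne j (by omega))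
      have := Submodule.finrank_lt_finrank_of_lt hlt
      have := ih (by omega)
      omega
  have := key (h + 1) le_rfl
  have := Submodule.finrank_le (f (h + 1))
  omega

variable [Module.Finite L N] (hM : M.IsLattice L) {h : ℕ} (hh : Module.finrank L N ≤ h)

include hM hh

/-- In an increasing chain of length `h + 1` of submodules of a lattice, some step is trivial modulo `p`. -/
lemma exists_mono_step (S : ℕ → Submodule W N) (hS : Monotone S) (hle : ∀ j ≤ h + 1, S j ≤ M) :
    ∃ j ≤ h, S (j + 1) ≤ S j ⊔ Isoc.pPow 1 M := by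
  obtain ⟨b, hb⟩ := exists_latBasis rfl hM
  obtain ⟨j, hj, hle'⟩ := exists_step (h := h) (k := k) (V := Fin (Module.finrank L N) → k) (by simpa using hh)
    (fun j => redSub hb (S j)) fun i j hij => redSub_mono hb (hS hij)
  exact ⟨j, hj, le_sup_of_redSub_le hb (hle _ (by omega)) hle'⟩

/-- In a decreasing chain of length `h + 1` of submodules of a lattice, some step is trivial modulo `p`. -/
lemma exists_anti_step (S : ℕ → Submodule W N) (hS : Antitone S) (hle : ∀ j, S j ≤ M) :
    ∃ j ≤ h, S j ≤ S (j + 1) ⊔ Isoc.pPow 1 M := by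
  obtain ⟨j, hj, hle'⟩ := exists_mono_step hM hh (fun i => S (h + 1 - i))
    (fun i j hij => hS (by omega)) (fun i _ => hle _)
  refine ⟨h - j, by omega, ?_⟩
  rwa [show h + 1 - (j + 1) = h - j by omega, show h + 1 - j = h - j + 1 by omega] at hle'

end Groth.Agent.IsocLib
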