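import Groth.Agent.IsocLib.Lang
import Groth.Agent.IsocLib.Decomp
import Mathlib.LinearAlgebra.DFinsupp

/-!
# Semisimplicity over an algebraically closed field
-/

noncomputable section

universe u v

namespace Groth.Agent.IsocLib

variable {p : ℕ} [hp : Fact p.Prime] {k : Type u} [Field k] [CharP k p] [PerfectRing k p]

set_option hygiene false in
local notation "W" => WittVector p k
set_option hygiene false in
local notation "L" => FractionRing (WittVector p k)

lemma isFrobLift_frob_pow {a : ℤ} {s n : ℕ} (h : a * s = n) : IsFrobLift (p := p) (k := k) (Isoc.frob p k a ^ s) n := by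
  intro w
  refine ⟨_, frob_pow_algebraMap a s w, ?_⟩
  rw [h, zpow_natCast]
  exact frobeniusEquiv_pow_coeff n w 0

lemma isFrobLift_frob_pow_inv {a : ℤ} {s n : ℕ} (h : a * s = -(n : ℤ)) :
    IsFrobLift (p := p) (k := k) ((Good.frob a).pow s).inv n := by
  intro w
  refine ⟨(WittVector.frobeniusEquiv p k ^ n) w, ?_, frobeniusEquiv_pow_coeff n w 0⟩
  apply ((Good.frob (p := p) (k := k) a).pow s).bij.1
  rw [Good.apply_inv, frob_pow_algebraMap, h]
  congr 1
  change w = ((WittVector.frobeniusEquiv p k ^ (-(n : ℤ))) * WittVector.frobeniusEquiv p k ^ n) w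
  rw [zpow_neg, zpow_natCast, inv_mul_cancel]
  rfl

variable [IsAlgClosed k] {a : ℤ} {N : Type v} [AddCommGroup N] [Module W N] [Module L N] [IsScalarTower W L N]
  {F : N →ₛₗ[Isoc.frob p k a] N}

/-- An isoclinic isocrystal has a basis fixed by the twisted iterate. -/
theorem exists_pow_fixed_basis (ha : a ≠ 0) (hF : Isoc.IsIsoc F) {M : Submodule W N} {r : ℤ} {s : ℕ}
    (hd : IsoData F M r s) {h : ℕ} (hh : Module.finrank L N = h) :
    ∃ e : Module.Basis (Fin h) L N, ∀ i, (⇑F)^[s] (e i) = (p : L) ^ r • e i := by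
  haveI := hF.finite
  have hσ := (Good.frob (p := p) (k := k) a).pow s
  have hG := isIsoc_twist F hF (-r) s
  have key : ∃ e : Module.Basis (Fin h) L N, ∀ i, ((p : L) ^ (-r) • Isoc.iter F s) (e i) = e i := by
    rcases lt_trichotomy (a * s) 0 with hlt | heq | hgt
    · obtain ⟨n, hn⟩ := Int.eq_ofNat_of_zero_le (show 0 ≤ -(a * s) by omega)
      have hS : Stab (invMap hσ hG) M := ⟨fun x hx => by
          obtain ⟨y, hy, rfl⟩ := hd.2.2.surj x hx
          rw [invMap_apply]; exact hy,
        fun y hy => ⟨_, hd.2.2.mem y hy, invMap_apply hσ hG y⟩⟩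
      obtain ⟨e, he⟩ := exists_fixed_basis (G := invMap hσ hG) hσ.good_inv (n := n) (by omega)
        (isFrobLift_frob_pow_inv (by omega)) hh hd.1 hS
      exact ⟨e, fun i => by conv_lhs => rw [← he i, apply_invMap]⟩
    · exact absurd heq (mul_ne_zero ha (by exact_mod_cast hd.2.1.ne'))
    · obtain ⟨n, hn⟩ := Int.eq_ofNat_of_zero_le hgt.le
      exact exists_fixed_basis hσ (n := n) (by omega) (isFrobLift_frob_pow hn) hh hd.1 hd.2.2
  obtain ⟨e, he⟩ := key
  refine ⟨e, fun i => ?_⟩
  have := congrArg ((p : L) ^ r • ·) (he i)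
  simp only [twist_iterate_apply, smul_smul, ← zpow_add₀ (p_ne_zero (p := p) (k := k)), add_neg_cancel, zpow_zero, one_smul] at this
  exact this

/-- An equivariant projection onto a stable subspace of an isoclinic isocrystal. -/
theorem exists_projection (ha : a ≠ 0) (hF : Isoc.IsIsoc F) {M : Submodule W N} {r : ℤ} {s : ℕ}
    (hd : IsoData F M r s) {P : Submodule L N} (hP : ∀ x ∈ P, F x ∈ P) :
    ∃ π : N →ₗ[L] N, (∀ x, π x ∈ P) ∧ (∀ x ∈ P, π x = x) ∧ ∀ x, π (F x) = F (π x) := by
  classical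
  haveI := hF.finite
  have hτ := Good.frob (p := p) (k := k) a
  let G := (p : L) ^ (-r) • Isoc.iter F s
  obtain ⟨e, he⟩ := exists_pow_fixed_basis ha hF hd rfl
  have hGe : ∀ i, G (e i) = e i := fun i => by
    rw [twist_iterate_apply, he i, smul_smul, ← zpow_add₀ p_ne_zero, neg_add_cancel, zpow_zero, one_smul]
  have hspan : Submodule.span L (Set.range fun i => P.mkQ (e i)) = ⊤ := by
    rw [show (fun i => P.mkQ (e i)) = P.mkQ ∘ e from rfl, Set.range_comp, ← Submodule.map_span, e.span_eq,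
      Submodule.map_top, Submodule.range_mkQ]
  let B := Module.Basis.ofSpan hspan.ge
  choose idx hidx using fun j => Module.Basis.ofSpan_subset hspan.ge (Set.mem_range_self j)
  let sec : (N ⧸ P) →ₗ[L] N := B.constr L fun j => e (idx j)
  have hsecB : ∀ j, sec (B j) = e (idx j) := fun j => B.constr_basis L _ j
  have hsec : ∀ q, P.mkQ (sec q) = q := LinearMap.congr_fun (B.ext (f₁ := P.mkQ.comp sec) (f₂ := LinearMap.id) fun j => by
    rw [LinearMap.comp_apply, hsecB, LinearMap.id_apply]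
    exact hidx j)
  let π₀ : N →ₗ[L] N := LinearMap.id - sec.comp P.mkQ
  have h0P : ∀ x, π₀ x ∈ P := fun x => by
    rw [← Submodule.Quotient.mk_eq_zero P, ← Submodule.mkQ_apply]
    simp only [π₀, LinearMap.sub_apply, LinearMap.id_apply, LinearMap.comp_apply, map_sub, hsec, sub_self]
  have h0id : ∀ x ∈ P, π₀ x = x := fun x hx => by
    simp [π₀, (Submodule.Quotient.mk_eq_zero P).2 hx]
  have hGP : ∀ x ∈ P, G x ∈ P := fun x hx => by
    rw [twist_iterate_apply, ← coe_restrict_iterate hP s ⟨x, hx⟩]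
    exact P.smul_mem _ (Subtype.coe_prop _)
  have hqB : ∀ j, P.mapQ P G hGP (B j) = B j := fun j => by
    have h1 : B j = P.mkQ (e (idx j)) := (hidx j).symm
    rw [h1, Submodule.mkQ_apply, Submodule.mapQ_apply, hGe]
  have hsG : ∀ q, G (sec q) = sec (P.mapQ P G hGP q) :=
    LinearMap.congr_fun (B.ext (f₁ := G.comp sec) (f₂ := sec.comp (P.mapQ P G hGP)) fun j => by
      rw [LinearMap.comp_apply, LinearMap.comp_apply, hqB, hsecB, hGe])
  have h0G : ∀ x, π₀ (G x) = G (π₀ x) := fun x => by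
    simp only [π₀, LinearMap.sub_apply, LinearMap.id_apply, LinearMap.comp_apply, map_sub, hsG]
    rfl
  have h0F : ∀ x, π₀ ((⇑F)^[s] x) = (⇑F)^[s] (π₀ x) := fun x => by
    have := h0G x
    rw [twist_iterate_apply, twist_iterate_apply, map_smul] at this
    exact smul_right_injective N (zpow_ne_zero (-r) p_ne_zero) this
  let I := invMap hτ hF
  let term : ℕ → N →ₗ[L] N := fun i =>
    { toFun := fun x => (⇑F)^[i] (π₀ ((⇑I)^[i] x))
      map_add' := fun x y => by rw [iterate_add, map_add, iterate_add]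
      map_smul' := fun c x => by
        rw [iterate_smul, map_smul, iterate_smul, RingHom.id_apply]
        congr 1
        induction i generalizing c with
        | zero => rfl
        | succ i ih =>
          rw [pow_succ, pow_succ', RingHom.coe_mul, RingHom.coe_mul, Function.comp_apply, Function.comp_apply,
            hτ.apply_inv, ih] }
  have hIP : ∀ i, ∀ x ∈ P, (⇑I)^[i] x ∈ P := fun i => by
    induction i with
    | zero => exact fun x hx => hx
    | succ i ih =>
      intro x hx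
      rw [Function.iterate_succ_apply]
      obtain ⟨y, hy, rfl⟩ := surj_stable hP hF x hx
      rw [invMap_apply]
      exact ih y hy
  have htermP : ∀ i x, term i x ∈ P := fun i x => by
    change (⇑F)^[i] _ ∈ P
    rw [← coe_restrict_iterate hP i ⟨_, h0P _⟩]
    exact Subtype.coe_prop _
  have hinv : ∀ i x, (⇑F)^[i] ((⇑I)^[i] x) = x := fun i => by
    induction i with
    | zero => exact fun x => rfl
    | succ i ih => intro x; rw [Function.iterate_succ_apply, Function.iterate_succ_apply' (⇑I), apply_invMap, ih]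
  have hs : (s : L) ≠ 0 := natCast_ne_zero hd.2.1.ne'
  refine ⟨(s : L)⁻¹ • ∑ i ∈ Finset.range s, term i, fun x => ?_, fun x hx => ?_, fun x => ?_⟩
  · rw [LinearMap.smul_apply, LinearMap.sum_apply]
    exact P.smul_mem _ (Submodule.sum_mem _ fun i _ => htermP i x)
  · rw [LinearMap.smul_apply, LinearMap.sum_apply, Finset.sum_congr rfl fun i _ => (show term i x = x by
      change (⇑F)^[i] (π₀ ((⇑I)^[i] x)) = x
      rw [h0id _ (hIP i x hx), hinv]), Finset.sum_const, Finset.card_range,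
      ← Nat.cast_smul_eq_nsmul L, smul_smul, inv_mul_cancel₀ hs, one_smul]
  · rw [LinearMap.smul_apply, LinearMap.smul_apply, LinearMap.sum_apply, LinearMap.sum_apply, map_smulₛₗ,
      map_inv₀, map_natCast, map_sum]
    congr 1
    obtain ⟨t, rfl⟩ : ∃ t, s = t + 1 := ⟨s - 1, by have := hd.2.1; omega⟩
    rw [Finset.sum_range_succ', Finset.sum_range_succ (fun i => F (term i x))]
    refine congrArg₂ (· + ·) (Finset.sum_congr rfl fun i _ => ?_) ?_
    · change (⇑F)^[i + 1] (π₀ ((⇑I)^[i + 1] (F x))) = F ((⇑F)^[i] (π₀ ((⇑I)^[i] x)))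
      rw [Function.iterate_succ_apply (⇑I), invMap_apply, Function.iterate_succ_apply']
    · change π₀ (F x) = F ((⇑F)^[t] (π₀ ((⇑I)^[t] x)))
      rw [← Function.iterate_succ_apply' (⇑F), ← h0F, Function.iterate_succ_apply' (⇑F), hinv]

/-- Complete reducibility. -/
theorem exists_stable_isCompl (ha : a ≠ 0) (hF : Isoc.IsIsoc F) {P : Submodule L N} (hP : ∀ x ∈ P, F x ∈ P) :
    ∃ Q : Submodule L N, (∀ x ∈ Q, F x ∈ Q) ∧ IsCompl P Q := by
  classical
  have hτ := Good.frob (p := p) (k := k) a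
  have hcompl : ∀ μ : ℚ, ∃ C : Submodule L N, C ≤ Isoc.slopePart F μ ∧ (∀ x ∈ C, F x ∈ C) ∧
      Disjoint (P ⊓ Isoc.slopePart F μ) C ∧ Isoc.slopePart F μ ≤ (P ⊓ Isoc.slopePart F μ) ⊔ C := by
    intro μ
    obtain ⟨hA, hiA⟩ := slopePart_mem hτ hF μ
    obtain ⟨M, r, s, hd, -⟩ := (isIsoclinic_iff hτ).1 hiA
    obtain ⟨π, hπP, hπid, hπF⟩ := exists_projection ha (isIsoc_restrict hA hF) hd
      (P := P.comap (Isoc.slopePart F μ).subtype) fun x hx => hP _ hx
    refine ⟨(LinearMap.ker π).map (Isoc.slopePart F μ).subtype, Submodule.map_subtype_le _ _, ?_, ?_, ?_⟩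
    · rintro _ ⟨x, hx, rfl⟩
      refine ⟨F.restrict hA x, ?_, rfl⟩
      change π (F.restrict hA x) = 0
      rw [hπF, show π x = 0 from hx, map_zero]
    · refine Submodule.disjoint_def.2 ?_
      rintro _ hx ⟨x, hxk, rfl⟩
      have h1 := hπid x hx.1
      rw [show π x = 0 from hxk] at h1
      rw [← h1, map_zero]
    · intro x hx
      refine Submodule.mem_sup.2 ⟨(π ⟨x, hx⟩ : N), ⟨hπP _, Subtype.coe_prop _⟩, ((⟨x, hx⟩ - π ⟨x, hx⟩ : Isoc.slopePart F μ) : N),
        ⟨⟨x, hx⟩ - π ⟨x, hx⟩, ?_, rfl⟩, add_sub_cancel _ _⟩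
      change π (_ - _) = 0
      rw [map_sub, hπid _ (hπP _), sub_self]
  choose C hCle hCst hCdisj hCsup using hcompl
  refine ⟨⨆ μ, C μ, fun x hx => ?_, Submodule.disjoint_def.2 fun x hxP hxC => ?_, codisjoint_iff.2 (eq_top_iff.2 ?_)⟩
  · exact (iSup_le fun μ y hy => (le_iSup C μ) (hCst μ y hy) : ⨆ μ, C μ ≤ (⨆ μ, C μ).comap F) hx
  · have hxP' : x ∈ ⨆ μ, (P ⊓ Isoc.slopePart F μ) := by
      have h3 := congrArg (Submodule.map P.subtype) (iSup_slopePart hτ _ (F.restrict hP) (isIsoc_restrict hP hF) le_rfl)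
      rw [Submodule.map_iSup, Submodule.map_top, Submodule.range_subtype] at h3
      rw [← h3] at hxP
      exact (iSup_mono fun μ => le_inf (Submodule.map_subtype_le _ _) (map_subtype_le_slopePart hτ hP μ hF)) hxP
    obtain ⟨f, hf, rfl⟩ := (Submodule.mem_iSup_iff_exists_finsupp _ _).1 hxP'
    obtain ⟨g, hg, hgx⟩ := (Submodule.mem_iSup_iff_exists_finsupp _ _).1 hxC
    rw [Finsupp.sum_of_support_subset f (Finset.subset_union_left (s₂ := g.support)) _ fun _ _ => rfl] at hgx ⊢
    rw [Finsupp.sum_of_support_subset g (Finset.subset_union_right (s₁ := f.support)) _ fun _ _ => rfl] at hgx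
    refine Finset.sum_eq_zero fun μ hμ => ?_
    have h0 := (iSupIndep_iff_finsetSum_eq_zero_imp_eq_zero _).1 (iSupIndep_slopePart hτ hF) (f.support ∪ g.support)
      (fun i => f i - g i) (fun i _ => Submodule.sub_mem _ (hf i).2 (hCle i (hg i)))
      (by rw [Finset.sum_sub_distrib, hgx, sub_self]) μ hμ
    exact Submodule.disjoint_def.1 (hCdisj μ) _ (hf μ) (sub_eq_zero.1 h0 ▸ hg μ)
  · rw [← iSup_slopePart hτ _ F hF le_rfl]
    exact iSup_le fun μ => (hCsup μ).trans (sup_le (inf_le_left.trans le_sup_left) ((le_iSup C μ).trans le_sup_right))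

end Groth.Agent.IsocLib
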