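import Groth.Agent.IsocLib.Ord
import Groth.Agent.IsocLib.Red
import Mathlib.NumberTheory.DiophantineApproximation.Basic

/-!
# Effectivity and rationality of the first slope
-/

noncomputable section

universe u v

open Filter Topology

namespace Groth.Agent.IsocLib

variable {p : ℕ} [hp : Fact p.Prime] {k : Type u} [Field k] [CharP k p] [PerfectRing k p]

set_option hygiene false in
local notation "W" => WittVector p k
set_option hygiene false in
local notation "L" => FractionRing (WittVector p k)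

variable {N : Type v} [AddCommGroup N] [Module W N] [Module L N] [IsScalarTower W L N]
  {τ : L →+* L} {F : N →ₛₗ[τ] N} {M : Submodule W N}
  (hτ : Good τ)

variable (F M) in
/-- `M + F M + ⋯ + F^(j-1) M`. -/
def partSum (j : ℕ) : Submodule W N := (Finset.range j).sup fun i => Isoc.latImg F i M

include hτ

omit [PerfectRing k p] in
lemma iterate_mem_latImg {i : ℕ} {x : N} (hx : x ∈ M) : (⇑F)^[i] x ∈ Isoc.latImg F i M :=
  (mem_latImg F hτ).2 ⟨x, hx, rfl⟩

omit [PerfectRing k p] hτ in
lemma partSum_mono : Monotone (partSum F M) := fun _ _ h => Finset.sup_mono (Finset.range_subset_range.2 h)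

omit [PerfectRing k p] hτ in
lemma latImg_le_partSum {i j : ℕ} (h : i < j) : Isoc.latImg F i M ≤ partSum F M j :=
  Finset.le_sup (f := fun i => Isoc.latImg F i M) (Finset.mem_range.2 h)

omit [PerfectRing k p] in
lemma iterate_mem_of_partSum {j c : ℕ} {S : Submodule W N}
    (h : ∀ i < j, ∀ m ∈ M, (⇑F)^[c + i] m ∈ S) {x : N} (hx : x ∈ partSum F M j) : (⇑F)^[c] x ∈ S := by
  induction j generalizing x with
  | zero =>
    rw [partSum, Finset.range_zero, Finset.sup_empty, Submodule.mem_bot] at hx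
    rw [hx, iterate_zero']
    exact S.zero_mem
  | succ j ih =>
    rw [partSum, Finset.range_add_one, Finset.sup_insert, Submodule.mem_sup] at hx
    obtain ⟨y, hy, z, hz, rfl⟩ := hx
    obtain ⟨m, hm, rfl⟩ := (mem_latImg F hτ).1 hy
    rw [iterate_add, ← Function.iterate_add_apply]
    exact S.add_mem (h j (Nat.lt_succ_self j) m hm) (ih (fun i hi => h i (by omega)) hz)

lemma isLattice_partSum [Module.Finite L N] (hM : M.IsLattice L) {j : ℕ} (hj : 0 < j) :
    (partSum F M j).IsLattice L := by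
  choose r hr using fun i => exists_le hM F hτ i
  let c := -∑ i ∈ Finset.range j, |r i|
  have hle : partSum F M j ≤ Isoc.pPow c M := by
    refine Finset.sup_le fun i hi => (le_iff F hτ).2 ((hr i).mono F ?_)
    have := Finset.single_le_sum (f := fun a => |r a|) (fun a _ => abs_nonneg (r a)) hi
    have := neg_abs_le (r i)
    omega
  have hge : M ≤ partSum F M j :=
    fun x hx => latImg_le_partSum hj (iterate_mem_latImg hτ (i := 0) hx)
  refine ⟨(isLattice_pPow c hM).fg.of_le hle, eq_top_iff.2 ?_⟩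
  rw [← hM.span_eq_top]
  exact Submodule.span_mono hge

/-- Effectivity criterion. -/
theorem exists_stable [Module.Finite L N] (hM : M.IsLattice L) {h : ℕ} (hh : Module.finrank L N ≤ h)
    (hFM : Le F M (h + 1) (-1)) : ∃ M' : Submodule W N, M'.IsLattice L ∧ ∀ x ∈ M', F x ∈ M' := by
  let P := partSum F M (h + 1)
  have hP : P.IsLattice L := isLattice_partSum hτ hM (Nat.succ_pos h)
  have hmem : ∀ i ≤ h, ∀ m ∈ M, (⇑F)^[i] m ∈ P := fun i hi m hm =>
    latImg_le_partSum (Nat.lt_succ_of_le hi) (iterate_mem_latImg hτ hm)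
  obtain ⟨j, hj, hstep⟩ := exists_mono_step hP hh (fun i => partSum F M (min i (h + 1)))
    (fun a b hab => partSum_mono (min_le_min_right _ hab)) (fun i _ => partSum_mono (min_le_right _ _))
  simp only [min_eq_left (show j + 1 ≤ h + 1 by omega), min_eq_left (show j ≤ h + 1 by omega)] at hstep
  have hlast : ∀ m ∈ M, (⇑F)^[h + 1] m ∈ P := by
    intro m hm
    have h0 : (⇑F)^[j] m ∈ partSum F M j ⊔ Isoc.pPow 1 P :=
      hstep (latImg_le_partSum (Nat.lt_succ_self j) (iterate_mem_latImg hτ hm))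
    obtain ⟨y, hy, z, hz, hyz⟩ := Submodule.mem_sup.1 h0
    rw [show h + 1 = (h + 1 - j) + j by omega, Function.iterate_add_apply, ← hyz, iterate_add]
    refine P.add_mem (iterate_mem_of_partSum hτ (fun i hi m hm => hmem _ (by omega) m hm) hy) ?_
    have key : ∀ u ∈ P, (⇑F)^[h + 1 - j] u ∈ Isoc.pPow (-1) P := by
      intro u hu
      refine iterate_mem_of_partSum hτ (fun i hi m hm => ?_) hu
      by_cases hle : h + 1 - j + i ≤ h
      · exact pPow_le_pPow (by omega) P ((pPow_zero' P).symm ▸ hmem _ hle m hm)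
      · obtain ⟨l, hl⟩ : ∃ l, h + 1 - j + i = l + (h + 1) := ⟨h + 1 - j + i - (h + 1), by omega⟩
        rw [hl, Function.iterate_add_apply, mem_pPow_iff, ← iterate_smul_pow F hτ]
        exact hmem l (by omega) _ (mem_pPow_iff.1 (hFM m hm))
    have h2 := key _ (mem_pPow_iff.1 hz)
    rw [iterate_smul_pow F hτ, pow_smul_mem_pPow_iff] at h2
    simpa [pPow_zero'] using h2
  refine ⟨P, hP, fun x hx => ?_⟩
  refine iterate_mem_of_partSum (c := 1) hτ (fun i hi m hm => ?_) hx
  by_cases hle : 1 + i ≤ h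
  · exact hmem _ hle m hm
  · rw [show 1 + i = h + 1 by omega]
    exact hlast m hm

omit [PerfectRing k p] in
lemma stable_iterate (hst : ∀ x ∈ M, F x ∈ M) (n : ℕ) : ∀ x ∈ M, (⇑F)^[n] x ∈ M := by
  induction n with
  | zero => exact fun x hx => hx
  | succ n ih =>
    intro x hx
    rw [Function.iterate_succ_apply']
    exact hst _ (ih x hx)

/-- If some iterate is divisible by `p`, the `h`-th one is. -/
theorem le_one_of_exists [Module.Finite L N] (hM : M.IsLattice L) {h : ℕ} (hh : Module.finrank L N ≤ h)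
    (hst : ∀ x ∈ M, F x ∈ M) {n : ℕ} (hn : Le F M n 1) : Le F M h 1 := by
  let A : ℕ → Submodule W N := fun j => Isoc.latImg F j M
  have hA : Antitone A := antitone_nat_of_succ_le fun j => (latImg_le_iff F hτ).2 fun m hm => by
    rw [Function.iterate_succ_apply]
    exact iterate_mem_latImg hτ (hst m hm)
  have hAM : ∀ j, A j ≤ M := fun j => (latImg_le_iff F hτ).2 fun m hm => stable_iterate hτ hst j m hm
  obtain ⟨j, hj, hstep⟩ := exists_anti_step hM hh A hA hAM
  have hall : ∀ l, A j ≤ A (j + l) ⊔ Isoc.pPow 1 M := by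
    intro l
    induction l with
    | zero => exact le_sup_left
    | succ l ih =>
      refine ih.trans (sup_le ?_ le_sup_right)
      intro x hx
      obtain ⟨m, hm, rfl⟩ := (mem_latImg F hτ).1 hx
      obtain ⟨y, hy, z, hz, hyz⟩ := Submodule.mem_sup.1 (hstep (iterate_mem_latImg hτ hm))
      obtain ⟨m', hm', rfl⟩ := (mem_latImg F hτ).1 hy
      rw [add_comm j l, Function.iterate_add_apply, ← hyz, iterate_add]
      refine Submodule.add_mem _ (Submodule.mem_sup_left ?_) (Submodule.mem_sup_right ?_)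
      · rw [← Function.iterate_add_apply, show l + (j + 1) = j + (l + 1) by omega]
        exact iterate_mem_latImg hτ hm'
      · have := stable_iterate hτ hst l _ (mem_pPow_iff.1 hz)
        rwa [iterate_smul_pow F hτ, ← mem_pPow_iff] at this
  intro m hm
  have h1 := hall n (hA (by omega : j ≤ h) (iterate_mem_latImg hτ hm))
  refine (sup_le ?_ le_rfl : A (j + n) ⊔ Isoc.pPow 1 M ≤ Isoc.pPow 1 M) h1
  exact (hA (by omega : n ≤ j + n)).trans ((le_iff F hτ).2 hn)

omit [PerfectRing k p] hτ in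
lemma stable_iff_le (G : N →ₛₗ[τ] N) (S : Submodule W N) :
    (∀ x ∈ S, G x ∈ S) ↔ Le G S 1 0 := by
  simp only [Le, Function.iterate_one, pPow_zero']

variable (hF : Isoc.IsIsoc F)

include hF

/-- A first slope `> -1/(h+1)` gives a stable lattice. -/
theorem exists_stable_of_gt {h : ℕ} (hh : Module.finrank L N ≤ h) {lam : ℝ}
    (hlam : Isoc.IsFirstSlope F lam) (h0 : -1 < (h + 1) * lam) :
    ∃ M' : Submodule W N, M'.IsLattice L ∧ ∀ x ∈ M', F x ∈ M' := by
  haveI := hF.finite
  haveI := nontrivial_of_isFirstSlope hlam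
  obtain ⟨M₀, hM₀, -⟩ := id hlam
  -- some multiple of `h + 1` has order at least minus its index
  have hlt : -1 / ((h : ℝ) + 1) < lam := by
    rw [div_lt_iff₀ (by positivity)]
    linarith
  obtain ⟨a, ha⟩ := eventually_atTop.1 ((tendsto_of_isFirstSlope hτ hF hlam hM₀).eventually (lt_mem_nhds hlt))
  have hj : Le F M₀ ((h + 1) * (a + 1)) (-(a + 1 : ℤ)) := by
    rw [le_ordF_iff hτ hF hM₀]
    have h1 := ha ((h + 1) * (a + 1)) (by nlinarith)
    rw [Nat.cast_mul, div_lt_div_iff₀ (by positivity) (by positivity)] at h1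
    push_cast at h1
    have h2 : -((a : ℝ) + 1) < ordF F M₀ ((h + 1) * (a + 1)) := by
      have hp : (0 : ℝ) < (h : ℝ) + 1 := by positivity
      nlinarith
    exact_mod_cast h2.le
  let G := (p : L) ^ (1 : ℤ) • Isoc.iter F (h + 1)
  have hG : Le G M₀ (a + 1) 0 := by
    rw [twist_le_iff F hτ]
    exact hj.mono F (by push_cast; omega)
  let P := partSum G M₀ (a + 1)
  refine exists_stable hτ (isLattice_partSum (hτ.pow (h + 1)) hM₀ (Nat.succ_pos a) : P.IsLattice L) hh ?_
  have hGP : ∀ x ∈ P, G x ∈ P := fun x hx => by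
    refine iterate_mem_of_partSum (c := 1) (hτ.pow (h + 1)) (fun i hi m hm => ?_) hx
    by_cases hle : 1 + i < a + 1
    · exact latImg_le_partSum hle (iterate_mem_latImg (hτ.pow (h + 1)) hm)
    · rw [show 1 + i = a + 1 by omega]
      refine latImg_le_partSum (Nat.succ_pos a) (iterate_mem_latImg (hτ.pow (h + 1)) (i := 0) ?_)
      exact (pPow_zero' M₀) ▸ hG m hm
  intro x hx
  have h1 := hGP x hx
  rw [mem_pPow_iff, neg_neg]
  exact h1

/-- The lattice criterion for a lower bound on the first slope. -/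
theorem exists_le_of_le {lam : ℝ} (hlam : Isoc.IsFirstSlope F lam) {r : ℤ} {s : ℕ}
    (hrs : (r : ℝ) ≤ s * lam) : ∃ M' : Submodule W N, M'.IsLattice L ∧ Le F M' s r := by
  have hF' := isIsoc_twist F hF (-r) s
  have h0 : (-1 : ℝ) < ((Module.finrank L N : ℕ) + 1 : ℝ) * (s * lam + ((-r : ℤ) : ℝ)) := by
    have : (0 : ℝ) ≤ s * lam + ((-r : ℤ) : ℝ) := by push_cast; linarith
    have : (0 : ℝ) ≤ ((Module.finrank L N : ℕ) + 1 : ℝ) * (s * lam + ((-r : ℤ) : ℝ)) := by positivity
    linarith
  obtain ⟨M', hM', hst⟩ := exists_stable_of_gt (hτ.pow s) hF' le_rfl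
    (isFirstSlope_twist hτ hF hlam (-r) s) h0
  refine ⟨M', hM', ?_⟩
  have := (stable_iff_le _ M').1 hst
  rw [twist_le_iff F hτ] at this
  simpa using this

/-- The first slope is rational with small denominator. -/
theorem exists_slope_eq_div {h : ℕ} (hh : Module.finrank L N = h) {lam : ℝ}
    (hlam : Isoc.IsFirstSlope F lam) :
    ∃ (r : ℤ) (s : ℕ) (M' : Submodule W N), 0 < s ∧ s ≤ h ∧ lam = (r : ℝ) / s ∧ M'.IsLattice L ∧
      Isoc.IsOrd M' F s r ∧ (∀ n, ¬ Le ((p : L) ^ (-r) • Isoc.iter F s) M' n 1) := by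
  haveI := nontrivial_of_isFirstSlope hlam
  haveI := hF.finite
  have hpos : 0 < h := hh ▸ Module.finrank_pos
  obtain ⟨r, s, hs0, hsh, hrs⟩ := Real.exists_int_int_abs_mul_sub_le lam hpos
  obtain ⟨s, rfl⟩ := Int.eq_ofNat_of_zero_le hs0.le
  rw [Int.cast_natCast] at hrs
  have hF' := isIsoc_twist F hF (-r) s
  have hτ' := hτ.pow s
  let G := (p : L) ^ (-r) • Isoc.iter F s
  let μ : ℝ := s * lam + ((-r : ℤ) : ℝ)
  have hμ : Isoc.IsFirstSlope G μ := isFirstSlope_twist hτ hF hlam (-r) s
  have hb : |μ| ≤ 1 / ((h : ℝ) + 1) := by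
    rw [show μ = s * lam - r by simp only [μ]; push_cast; ring]
    exact hrs
  have hlo : -1 ≤ ((h : ℝ) + 1) * μ := by
    have h2 := mul_le_mul_of_nonneg_left (abs_le.1 hb).1 (by positivity : (0 : ℝ) ≤ (h : ℝ) + 1)
    rw [mul_neg, mul_one_div, div_self (by positivity : ((h : ℝ) + 1) ≠ 0)] at h2
    exact h2
  have hlo' : (((-1 : ℤ)) : ℝ) ≤ ((h + 1 : ℕ) : ℝ) * μ := by push_cast; linarith
  obtain ⟨M₀, hM₀, hle⟩ := exists_le_of_le hτ' hF' hμ hlo'
  obtain ⟨M', hM', hst⟩ := exists_stable hτ' hM₀ hh.le hle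
  have hnh : ¬ Le G M' h 1 := fun hle => by
    have h1 := le_mul_of_le hτ' hF' hμ hM' hle
    have h2 := (abs_le.1 hb).2
    have h3 : ((h : ℝ) * μ) ≤ h * (1 / ((h : ℝ) + 1)) := mul_le_mul_of_nonneg_left h2 (Nat.cast_nonneg h)
    have h4 : (h : ℝ) * (1 / ((h : ℝ) + 1)) < 1 := by
      rw [mul_one_div, div_lt_one (by positivity)]
      linarith
    push_cast at h1
    linarith
  have hall : ∀ n, ¬ Le G M' n 1 := fun n hn => hnh (le_one_of_exists hτ' hM' hh.le hst hn)
  have hord : ∀ n, ordF G M' n = 0 := fun n => le_antisymm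
    (not_lt.1 fun hlt => hall n ((le_ordF_iff hτ' hF' hM').2 hlt))
    ((le_ordF_iff hτ' hF' hM').1 fun m hm => (pPow_zero' M').symm ▸ stable_iterate hτ' hst n m hm)
  have hμ0 : μ = 0 := tendsto_nhds_unique (tendsto_of_isFirstSlope hτ' hF' hμ hM')
    (by simp only [G] at hord; simp only [hord, Int.cast_zero, zero_div]; exact tendsto_const_nhds)
  refine ⟨r, s, M', by omega, by omega, ?_, hM', ?_, hall⟩
  · simp only [μ] at hμ0
    push_cast at hμ0
    rw [eq_div_iff (by exact_mod_cast (show s ≠ 0 by omega))]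
    linarith
  · rw [isOrd_iff F hτ]
    have h1 := (stable_iff_le G M').1 hst
    rw [twist_le_iff F hτ] at h1
    refine ⟨by simpa using h1, fun h2 => hall 1 ?_⟩
    rw [twist_le_iff F hτ]
    simpa [add_comm] using h2

end Groth.Agent.IsocLib
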